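import Groth.Agent.Lib.Ram25.Main
import Groth.Agent.Lib.Pur25.BranchScheme
import Groth.Agent.Lib.FlatH4.FlatLocusScheme
import Groth.Agent.Lib.EtQuotH28.Main

/-!
# Purity of the ramification locus for schemes
-/

set_option autoImplicit false

universe u

open CategoryTheory AlgebraicGeometry IsLocalRing
open scoped TensorProduct

noncomputable section

namespace Groth.Agent.Ram25

variable {X Y : Scheme.{u}} (f : X ⟶ Y)

theorem flat_stalkMap_of_nhd (x : X) {V : X.Opens} (hx : x ∈ V) [Flat (V.ι ≫ f)] :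
    (f.stalkMap x).hom.Flat := by
  have h := Flat.stalkMap (V.ι ≫ f) ⟨x, hx⟩
  rw [Scheme.Hom.stalkMap_comp V.ι f ⟨x, hx⟩] at h
  haveI : IsIso (V.ι.stalkMap ⟨x, hx⟩) := (IsOpenImmersion.iff_isIso_stalkMap.1 inferInstance).2 _
  exact (RingHom.Flat.respectsIso.cancel_right_isIso (f.stalkMap (V.ι ⟨x, hx⟩)) (V.ι.stalkMap ⟨x, hx⟩)).1 h

/-- Points with an étale neighbourhood give étale primes in affine charts. -/
theorem isEtaleAt_of_nhd [LocallyOfFiniteType f] [IsLocallyNoetherian Y] {U : Y.Opens} (hU : IsAffineOpen U)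
    {V : X.Opens} (hV : IsAffineOpen V) (hVU : V ≤ f ⁻¹ᵁ U) {z : X} (hz : z ∈ V)
    (h : ∃ W : X.Opens, z ∈ W ∧ Etale (W.ι ≫ f)) :
    letI := (f.appLE U V hVU).hom.toAlgebra
    Algebra.IsEtaleAt Γ(Y, U) (hV.primeIdealOf ⟨z, hz⟩).asIdeal := by
  obtain ⟨W, hzW, hW⟩ := h
  haveI := hW
  letI := (f.appLE U V hVU).hom.toAlgebra
  haveI : IsNoetherianRing Γ(Y, U) := IsLocallyNoetherian.component_noetherian ⟨U, hU⟩
  haveI : Algebra.FiniteType Γ(Y, U) Γ(X, V) := f.finiteType_appLE hU hV hVU
  haveI : Algebra.FinitePresentation Γ(Y, U) Γ(X, V) := Algebra.FinitePresentation.of_finiteType.1 inferInstance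
  haveI : Algebra.IsUnramifiedAt Γ(Y, U) (hV.primeIdealOf ⟨z, hz⟩).asIdeal :=
    (EtaleNhd17.formallyUnramified_stalkMap_iff f U hU V hV hVU hz).1 (EtaleNhd17.formallyUnramified_stalkMap_of_nhd f z hzW)
  haveI : Module.Flat Γ(Y, U) (Localization.AtPrime (hV.primeIdealOf ⟨z, hz⟩).asIdeal) :=
    (FlatH4.flat_localization_iff _).1 ((FlatH4.flat_stalkMap_iff f U hU V hV hVU hz).1 (flat_stalkMap_of_nhd f z hzW))
  exact EtQuotH28.isEtaleAt_of_flat_of_isUnramifiedAt _

/-- The local ring of a point specializing to a normal point is a normal domain. -/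
theorem isNormal_of_specializes {x x' : X} (h : x' ⤳ x) [IsDomain (X.presheaf.stalk x)]
    [IsIntegrallyClosed (X.presheaf.stalk x)] :
    IsDomain (X.presheaf.stalk x') ∧ IsIntegrallyClosed (X.presheaf.stalk x') := by
  letI := (X.presheaf.stalkSpecializes h).hom.toAlgebra
  haveI hl := Cyc26.isLocalization_stalkSpecializes h
  let P : Ideal (X.presheaf.stalk x) := RingHom.ker (Cyc.specMap x x' h)
  haveI : P.IsPrime := RingHom.ker_isPrime _
  haveI : IsLocalization.AtPrime (X.presheaf.stalk x') P := hl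
  haveI : IsDomain (X.presheaf.stalk x') := IsLocalization.isDomain_of_atPrime _ P
  exact ⟨inferInstance, isIntegrallyClosed_of_isLocalization _ P.primeCompl P.primeCompl_le_nonZeroDivisors⟩

/-- The local ring of a point specializing to a regular point is regular. -/
theorem isRegularLocalRing_of_specializes {y y' : Y} (h : y' ⤳ y) [IsRegularLocalRing (Y.presheaf.stalk y)] :
    IsRegularLocalRing (Y.presheaf.stalk y') := by
  letI := (Y.presheaf.stalkSpecializes h).hom.toAlgebra
  haveI hl := Cyc26.isLocalization_stalkSpecializes h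
  let P : Ideal (Y.presheaf.stalk y) := RingHom.ker (Cyc.specMap y y' h)
  haveI : P.IsPrime := RingHom.ker_isPrime _
  haveI : IsLocalization.AtPrime (Y.presheaf.stalk y') P := hl
  haveI := RegLoc.isRegularLocalRing_localization (Y.presheaf.stalk y) P
  exact IsRegularLocalRing.of_ringEquiv
    (IsLocalization.algEquiv P.primeCompl (Localization.AtPrime P) (Y.presheaf.stalk y')).toRingEquiv

set_option maxHeartbeats 1600000 in
/-- Étaleness at all generizations gives quasi-finiteness and the equality of dimensions. -/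
theorem quasiFiniteAt_and_dim [LocallyOfFiniteType f] [IsLocallyNoetherian Y] [IsLocallyNoetherian X] (x : X)
    [IsDomain (X.presheaf.stalk x)] [IsIntegrallyClosed (X.presheaf.stalk x)]
    [IsRegularLocalRing (Y.presheaf.stalk (f x))] (hdim : (2 : WithBot ℕ∞) ≤ ringKrullDim (X.presheaf.stalk x))
    (het : ∀ x' : X, x' ⤳ x → ringKrullDim (X.presheaf.stalk x') < ringKrullDim (X.presheaf.stalk x) →
      1 ≤ ringKrullDim (X.presheaf.stalk x') → ∃ W : X.Opens, x' ∈ W ∧ Etale (W.ι ≫ f)) :
    f.QuasiFiniteAt x ∧ ringKrullDim (X.presheaf.stalk x) = ringKrullDim (Y.presheaf.stalk (f x)) := by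
  classical
  obtain ⟨U, hU, hxU, -⟩ := exists_isAffineOpen_mem_and_subset (X := Y) (x := f x) (U := ⊤) trivial
  obtain ⟨V, hV, hxV, hVU⟩ := exists_isAffineOpen_mem_and_subset (X := X) (x := x) (U := f ⁻¹ᵁ U) hxU
  letI : Algebra Γ(Y, U) Γ(X, V) := (f.appLE U V hVU).hom.toAlgebra
  haveI : IsNoetherianRing Γ(Y, U) := IsLocallyNoetherian.component_noetherian ⟨U, hU⟩
  haveI : IsNoetherianRing Γ(X, V) := IsLocallyNoetherian.component_noetherian ⟨V, hV⟩
  haveI : Algebra.FiniteType Γ(Y, U) Γ(X, V) := f.finiteType_appLE hU hV hVU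
  haveI : Algebra.FinitePresentation Γ(Y, U) Γ(X, V) := Algebra.FinitePresentation.of_finiteType.1 inferInstance
  letI : Algebra Γ(Y, U) (Y.presheaf.stalk (f x)) :=
    TopCat.Presheaf.algebra_section_stalk Y.presheaf (⟨f x, hVU hxV⟩ : U)
  haveI := hU.isLocalization_stalk ⟨f x, hVU hxV⟩
  letI : Algebra Γ(X, V) (X.presheaf.stalk x) := TopCat.Presheaf.algebra_section_stalk X.presheaf (⟨x, hxV⟩ : V)
  haveI hlocX := hV.isLocalization_stalk ⟨x, hxV⟩
  let p : Ideal Γ(X, V) := (hV.primeIdealOf ⟨x, hxV⟩).asIdeal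
  haveI : IsLocalization.AtPrime (X.presheaf.stalk x) p := hlocX
  let A := Y.presheaf.stalk (f x)
  let O := X.presheaf.stalk x
  letI : Algebra A O := (f.stalkMap x).hom.toAlgebra
  letI : Algebra Γ(Y, U) O := ((algebraMap Γ(X, V) O).comp (algebraMap Γ(Y, U) Γ(X, V))).toAlgebra
  haveI : IsScalarTower Γ(Y, U) Γ(X, V) O := IsScalarTower.of_algebraMap_eq fun _ => rfl
  haveI : IsScalarTower Γ(Y, U) A O := IsScalarTower.of_algebraMap_eq fun a => by
    show X.presheaf.germ V x hxV (f.appLE U V hVU a) = f.stalkMap x (Y.presheaf.germ U (f x) (hVU hxV) a)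
    rw [← ConcreteCategory.comp_apply, ← ConcreteCategory.comp_apply, f.germ_stalkMap, Scheme.Hom.appLE,
      Category.assoc, TopCat.Presheaf.germ_res]
  haveI : IsLocalHom (algebraMap A O) := inferInstanceAs (IsLocalHom (f.stalkMap x).hom)
  let C := A ⊗[Γ(Y, U)] Γ(X, V)
  let γ : C →ₐ[A] O :=
    Algebra.TensorProduct.lift (Algebra.ofId A O) (IsScalarTower.toAlgHom Γ(Y, U) Γ(X, V) O) fun _ _ => Commute.all _ _
  let n : Ideal C := (maximalIdeal O).comap γ.toRingHom
  letI : Algebra Γ(X, V) C := Algebra.TensorProduct.rightAlgebra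
  letI : Algebra C O := γ.toRingHom.toAlgebra
  haveI : IsScalarTower A C O := IsScalarTower.of_algebraMap_eq fun a => (γ.commutes a).symm
  haveI : IsScalarTower Γ(X, V) C O := IsScalarTower.of_algebraMap_eq fun s => by
    show algebraMap Γ(X, V) O s = Algebra.ofId A O 1 * algebraMap Γ(X, V) O s
    rw [map_one, one_mul]
  let M := Algebra.algebraMapSubmonoid Γ(X, V) (hU.primeIdealOf ⟨f x, hVU hxV⟩).asIdeal.primeCompl
  haveI hCloc : IsLocalization M C := inferInstance
  have hpc : ∀ s, s ∈ p ↔ algebraMap Γ(X, V) O s ∈ maximalIdeal O := fun s =>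
    (IsLocalization.AtPrime.to_map_mem_maximal_iff O p s).symm
  have hMle : M ≤ p.primeCompl := by
    rintro _ ⟨r, hr, rfl⟩ hrp
    have h2 : algebraMap A O (algebraMap Γ(Y, U) A r) ∈ maximalIdeal O := by
      rw [← IsScalarTower.algebraMap_apply Γ(Y, U) A O, IsScalarTower.algebraMap_apply Γ(Y, U) Γ(X, V) O]
      exact (hpc _).1 hrp
    exact (mem_maximalIdeal _).1 h2 ((IsLocalization.map_units A (⟨r, hr⟩ :
      (hU.primeIdealOf ⟨f x, hVU hxV⟩).asIdeal.primeCompl)).map (algebraMap A O))
  haveI : IsLocalization.AtPrime O n := by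
    haveI := IsLocalization.isLocalization_of_submonoid_le C O M p.primeCompl hMle
    refine IsLocalization.of_le (p.primeCompl.map (algebraMap Γ(X, V) C)) n.primeCompl ?_ fun r hr => ?_
    · rintro _ ⟨s, hs, rfl⟩ hsn
      refine hs ((hpc s).2 ?_)
      rw [IsScalarTower.algebraMap_apply Γ(X, V) C O]
      exact hsn
    · by_contra hn
      exact hr ((mem_maximalIdeal _).2 hn)
  let e : Localization.AtPrime n ≃ₐ[A] O :=
    (IsLocalization.algEquiv n.primeCompl (Localization.AtPrime n) O).restrictScalars A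
  haveI : IsDomain (Localization.AtPrime n) := e.toRingEquiv.toMulEquiv.isDomain
  haveI : IsIntegrallyClosed (Localization.AtPrime n) := IsIntegrallyClosed.of_equiv e.toRingEquiv.symm
  have hnA : n.comap (algebraMap A C) = maximalIdeal A := by
    ext a
    show γ (algebraMap A C a) ∈ maximalIdeal O ↔ _
    rw [γ.commutes]
    exact SetLike.ext_iff.1 (IsLocalRing.maximalIdeal_comap (algebraMap A O)) a
  have hph : ringKrullDim O = p.height := IsLocalization.AtPrime.ringKrullDim_eq_height p O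
  obtain ⟨d, hd⟩ := DepthLib.exists_supportDim_eq_natCast (R := O) (M := O)
  rw [Module.supportDim_self_eq_ringKrullDim] at hd
  have hpd : p.height = (d : ℕ∞) := WithBot.coe_inj.1 (hph.symm.trans hd)
  -- étale primes of the chart
  have hS : ∀ (Q : Ideal Γ(X, V)) (_ : Q.IsPrime), Q < p → Algebra.IsEtaleAt Γ(Y, U) Q := by
    have hS1 : ∀ (Q : Ideal Γ(X, V)) (_ : Q.IsPrime), Q < p → 1 ≤ Q.height → Algebra.IsEtaleAt Γ(Y, U) Q := by
      intro Q hQ hlt h1
      let x' := hV.fromSpec ⟨Q, hQ⟩
      have hx'V : x' ∈ V := by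
        have : x' ∈ Set.range hV.fromSpec := ⟨_, rfl⟩
        rwa [hV.range_fromSpec] at this
      have hprime : hV.primeIdealOf ⟨x', hx'V⟩ = ⟨Q, hQ⟩ :=
        hV.fromSpec.isOpenEmbedding.injective (hV.fromSpec_primeIdealOf ⟨x', hx'V⟩)
      have hsp : x' ⤳ x := by
        have h := ((PrimeSpectrum.le_iff_specializes ⟨Q, hQ⟩ (hV.primeIdealOf ⟨x, hxV⟩)).1 hlt.le).map hV.fromSpec.continuous
        rwa [hV.fromSpec_primeIdealOf] at h
      letI : Algebra Γ(X, V) (X.presheaf.stalk x') := TopCat.Presheaf.algebra_section_stalk X.presheaf (⟨x', hx'V⟩ : V)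
      haveI := hV.isLocalization_stalk ⟨x', hx'V⟩
      have hdimx' : ringKrullDim (X.presheaf.stalk x') = Q.height := by
        rw [IsLocalization.AtPrime.ringKrullDim_eq_height (hV.primeIdealOf ⟨x', hx'V⟩).asIdeal (X.presheaf.stalk x'), hprime]
      have hlt' : Q.height < p.height := by
        have h2 := Ideal.height_add_one_le_of_lt_of_isPrime hlt
        rw [hpd] at h2 ⊢
        exact lt_of_lt_of_le (ENat.lt_add_one_iff (ne_top_of_le_ne_top (ENat.natCast_ne_top d)
          ((le_add_right le_rfl).trans h2)) |>.2 le_rfl) h2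
      have := isEtaleAt_of_nhd f hU hV hVU hx'V (het x' hsp (by rw [hdimx', hph]; exact WithBot.coe_lt_coe.2 hlt')
        (by rw [hdimx']; exact_mod_cast h1))
      simpa only [hprime] using this
    intro Q hQ hlt
    by_cases h1 : 1 ≤ Q.height
    · exact hS1 Q hQ hlt h1
    obtain ⟨a, ha, ha0⟩ : ∃ a ∈ maximalIdeal O, a ≠ 0 := by
      by_contra! hc
      rw [ringKrullDim_eq_zero_of_isField (F := O) (isField_iff_maximalIdeal_eq.2 ((Submodule.eq_bot_iff _).2 hc))] at hdim
      exact absurd hdim (by decide)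
    obtain ⟨q, hq, -⟩ := Ideal.exists_minimalPrimes_le (I := Ideal.span {a}) (J := maximalIdeal O)
      ((Ideal.span_singleton_le_iff_mem _).2 ha)
    haveI := hq.1.1
    have hq1 : q.height = 1 := by
      refine le_antisymm (Ideal.height_le_one_of_isPrincipal_of_mem_minimalPrimes _ q hq) ?_
      refine le_trans le_add_self (Ideal.height_add_one_le_of_lt_of_isPrime (R := O) (I := ⊥) (bot_lt_iff_ne_bot.2 fun h => ha0 ?_))
      have := hq.1.2 (Ideal.mem_span_singleton_self a)
      rwa [h, Ideal.mem_bot] at this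
    let Q' := q.comap (algebraMap Γ(X, V) O)
    have hQ'1 : Q'.height = 1 := by
      rw [← hq1]; exact IsLocalization.height_under (R := Γ(X, V)) p.primeCompl q
    have hQ'p : Q' ≤ p := fun s hs => (hpc s).2 (le_maximalIdeal (Ideal.IsPrime.ne_top inferInstance) hs)
    have hQ'lt : Q' < p := lt_of_le_of_ne hQ'p fun h => by
      have h1 : ringKrullDim O = 1 := by rw [hph, ← h, hQ'1]; rfl
      rw [h1] at hdim
      exact absurd hdim (by decide)
    haveI := hS1 Q' inferInstance hQ'lt hQ'1.ge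
    let c : Ideal Γ(X, V) := RingHom.ker (algebraMap Γ(X, V) O)
    haveI : c.IsPrime := RingHom.ker_isPrime _
    have hcQ : c ≤ Q := fun s hs => by
      obtain ⟨t, ht⟩ := (IsLocalization.map_eq_zero_iff p.primeCompl O s).1 hs
      exact (hQ.mem_or_mem (ht ▸ Q.zero_mem : (t : Γ(X, V)) * s ∈ Q)).resolve_left fun h => t.2 (hlt.le h)
    have hQc : Q = c := by
      by_contra hne
      exact h1 (le_trans le_add_self (Ideal.height_add_one_le_of_lt_of_isPrime (lt_of_le_of_ne hcQ (Ne.symm hne))))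
    have hQQ' : Q ≤ Q' := fun s hs => by
      show algebraMap Γ(X, V) O s ∈ q
      rw [RingHom.mem_ker.1 (hQc.le hs)]
      exact q.zero_mem
    have hsp2 : (⟨Q, hQ⟩ : PrimeSpectrum Γ(X, V)) ⤳ ⟨Q', inferInstance⟩ :=
      (PrimeSpectrum.le_iff_specializes _ _).1 hQQ'
    exact hsp2.mem_open Algebra.isOpen_etaleLocus (inferInstance : Algebra.IsEtaleAt Γ(Y, U) Q')
  have hetC : ∀ (P : Ideal C) (_ : P.IsPrime), P < n → Algebra.IsEtaleAt A P := by
    intro P hP hlt
    refine Pur25.isEtaleAt_baseChange P (hS _ inferInstance ?_)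
    have hnp : n.comap (algebraMap Γ(X, V) C) = p := by
      ext s
      show γ (algebraMap Γ(X, V) C s) ∈ maximalIdeal O ↔ _
      rw [hpc, show γ (algebraMap Γ(X, V) C s) = algebraMap Γ(X, V) O s from
        (IsScalarTower.algebraMap_apply Γ(X, V) C O s).symm]
    rw [← hnp]
    refine lt_of_le_of_ne (Ideal.comap_mono hlt.le) fun he => hlt.ne ?_
    rw [← IsLocalization.map_comap M C P, ← IsLocalization.map_comap M C n]
    exact congrArg (Ideal.map (algebraMap Γ(X, V) C)) he
  haveI : Algebra.FiniteType A C := inferInstance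
  haveI : Algebra.FinitePresentation A C := inferInstance
  have hdn : ringKrullDim (Localization.AtPrime n) = ringKrullDim O := ringKrullDim_eq_of_ringEquiv e.toRingEquiv
  haveI := quasiFiniteAt_of_etale_punctured n hnA (hdn ▸ hdim) hetC
  have hqf : f.QuasiFiniteAt x := by
    show Algebra.QuasiFinite A O
    exact Algebra.QuasiFinite.of_surjective_algHom e.toAlgHom e.surjective
  refine ⟨hqf, ?_⟩
  -- the dimensions
  obtain ⟨C', hC', hloc⟩ := Pur25.exists_subalgebra_of_quasiFiniteAt f x hqf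
  haveI := hC'
  haveI := RegLoc.isDomain A
  let c₀ : Ideal C := RingHom.ker (algebraMap C (Localization.AtPrime n))
  haveI : c₀.IsPrime := RingHom.ker_isPrime _
  have hc₀n : c₀ < n := by
    refine lt_of_le_of_ne (fun z hz => ?_) fun he => ?_
    · by_contra hzn
      exact (IsLocalization.map_units (Localization.AtPrime n) (⟨z, hzn⟩ : n.primeCompl)).ne_zero hz
    · have h1 := IsLocalization.height_under (R := C) n.primeCompl (⊥ : Ideal (Localization.AtPrime n))
      rw [Ideal.height_bot, Ideal.under_def,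
        show (⊥ : Ideal (Localization.AtPrime n)).comap (algebraMap C (Localization.AtPrime n)) = c₀ from rfl, he] at h1
      rw [← hdn, IsLocalization.AtPrime.ringKrullDim_eq_height n (Localization.AtPrime n), h1] at hdim
      exact absurd hdim (by decide)
  haveI := hetC c₀ inferInstance hc₀n
  have hinjO : Function.Injective (algebraMap A O) := (injective_iff_map_eq_zero _).2 fun a ha => by
    by_contra ha0
    refine algebraMap_ne_zero_of_isEtaleAt c₀ n hc₀n.le ha0 (e.injective ?_)
    rw [e.commutes, map_zero]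
    exact ha
  let q : Ideal C' := (maximalIdeal O).comap C'.val.toRingHom
  haveI : IsLocalization.AtPrime O q := by
    refine (isLocalization_iff _ _).2 ⟨fun y => ?_, fun z => ?_, fun {a b} hab => ⟨1, ?_⟩⟩
    · by_contra hn
      exact y.2 ((mem_maximalIdeal _).2 hn)
    · obtain ⟨s, t, ht, hst⟩ := hloc z
      exact ⟨(s, ⟨t, fun hm => (mem_maximalIdeal _).1 hm ht⟩), hst⟩
    · exact congrArg (fun z : C' => (1 : C') * z) (Subtype.ext hab)
  have hinjC : Function.Injective (algebraMap A C') := fun a b h => hinjO (congrArg Subtype.val h)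
  have hqA : q.comap (algebraMap A C') = maximalIdeal A := by
    ext a
    exact SetLike.ext_iff.1 (IsLocalRing.maximalIdeal_comap (algebraMap A O)) a
  rw [IsLocalization.AtPrime.ringKrullDim_eq_height q O, Pur25.height_eq_of_extension hinjC q, hqA]
  exact maximalIdeal_height_eq_ringKrullDim

/-- **Purity of the ramification locus.** -/
theorem exists_etale_of_normal [LocallyOfFiniteType f] [IsLocallyNoetherian X] [IsLocallyNoetherian Y] :
    ∀ (d : ℕ) (x : X), ringKrullDim (X.presheaf.stalk x) = d → 1 ≤ d → IsDomain (X.presheaf.stalk x) →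
      IsIntegrallyClosed (X.presheaf.stalk x) → IsRegularLocalRing (Y.presheaf.stalk (f x)) →
      (∀ x' : X, x' ⤳ x → ringKrullDim (X.presheaf.stalk x') = 1 → ∃ U : X.Opens, x' ∈ U ∧ Etale (U.ι ≫ f)) →
      ∃ U : X.Opens, x ∈ U ∧ Etale (U.ι ≫ f) := by
  intro d
  induction d using Nat.strong_induction_on with
  | _ d ih =>
  intro x hdim hd hdom hnorm hreg het
  rcases eq_or_lt_of_le hd with rfl | hd2
  · exact het x specializes_rfl hdim
  haveI := hdom
  haveI := hnorm
  haveI := hreg
  have h2 : (2 : WithBot ℕ∞) ≤ ringKrullDim (X.presheaf.stalk x) := by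
    rw [hdim]; exact_mod_cast hd2
  have h1 : (1 : WithBot ℕ∞) ≤ ringKrullDim (X.presheaf.stalk x) := by
    rw [hdim]; exact_mod_cast hd
  obtain ⟨hq, hdim'⟩ := quasiFiniteAt_and_dim f x h2 fun x' hsp hlt h1' => by
    obtain ⟨hdom', hnorm'⟩ := isNormal_of_specializes hsp
    haveI := isRegularLocalRing_of_specializes (hsp.map f.continuous)
    obtain ⟨d', hd'⟩ := DepthLib.exists_supportDim_eq_natCast (R := X.presheaf.stalk x') (M := X.presheaf.stalk x')
    rw [Module.supportDim_self_eq_ringKrullDim] at hd'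
    rw [hdim, hd'] at hlt
    rw [hd'] at h1'
    exact ih d' (by exact_mod_cast hlt) x' hd' (by exact_mod_cast h1') hdom' hnorm' inferInstance
      fun x'' h'' => het x'' (h''.trans hsp)
  refine Pur25.exists_etale_of_codim_one f x hq hdim' h1 fun x' hsp hx' => ?_
  obtain ⟨U, hxU, hU⟩ := het x' hsp hx'
  haveI := hU
  exact EtaleNhd17.formallyUnramified_stalkMap_of_nhd f x' hxU

end Groth.Agent.Ram25
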