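import Groth.Agent.Lib.RegLoc.Quotient
import Groth.Agent.Lib.RegLoc.GlobalDim
import Mathlib.RingTheory.RegularLocalRing.Polynomial
import Mathlib.RingTheory.Etale.Locus
import Mathlib.RingTheory.Unramified.Locus
import Mathlib.RingTheory.KrullDimension.Regular
import Mathlib.Algebra.MvPolynomial.PDeriv

/-!
# The Jacobian criterion in a polynomial ring
-/

set_option autoImplicit false

universe u

open MvPolynomial IsLocalRing RingTheory.Sequence

noncomputable section

namespace Groth.Agent.Ram25

variable {A : Type u} [CommRing A] {σ : Type}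

/-- The Jacobian matrix of a family of polynomials. -/
def jac (v : σ → MvPolynomial σ A) : Matrix σ σ (MvPolynomial σ A) := Matrix.of fun i j => pderiv j (v i)

@[simp] theorem jac_apply (v : σ → MvPolynomial σ A) (i j : σ) : jac v i j = pderiv j (v i) := rfl

theorem pderiv_mem_of_mem_sq {I : Ideal (MvPolynomial σ A)} {x : MvPolynomial σ A} (hx : x ∈ I ^ 2) (j : σ) :
    pderiv j x ∈ I := by
  rw [sq] at hx
  refine Submodule.mul_induction_on hx (fun a ha b hb => ?_) fun a b ha hb => ?_
  · rw [pderiv_mul]
    exact I.add_mem (I.mul_mem_left _ hb) (I.mul_mem_right _ ha)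
  · rw [map_add]; exact I.add_mem ha hb

variable [Fintype σ] [DecidableEq σ]

/-- The determinant of the Jacobian only depends on the family modulo the square of an ideal, modulo it. -/
theorem det_jac_sub_mem {I : Ideal (MvPolynomial σ A)} (v w : σ → MvPolynomial σ A) (h : ∀ i, v i - w i ∈ I ^ 2) :
    (jac v).det - (jac w).det ∈ I := by
  rw [← Ideal.Quotient.eq, RingHom.map_det, RingHom.map_det]
  congr 1
  ext i j
  simp only [RingHom.mapMatrix_apply, Matrix.map_apply, jac_apply]
  rw [Ideal.Quotient.eq, ← map_sub]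
  exact pderiv_mem_of_mem_sq (h i) j

variable {E : Type u} [CommRing E]

/-- Chain rule for a relation between two families vanishing at a point. -/
theorem chain_rule (φ : MvPolynomial σ A →+* E) (v u : σ → MvPolynomial σ A) (s : σ → MvPolynomial σ A)
    (M : Matrix σ σ (MvPolynomial σ A)) (h : ∀ i, s i * v i = ∑ k, M i k * u k) (hv : ∀ i, φ (v i) = 0)
    (hu : ∀ k, φ (u k) = 0) :
    (∏ i, φ (s i)) * φ (jac v).det = φ M.det * φ (jac u).det := by
  rw [RingHom.map_det, RingHom.map_det, RingHom.map_det, ← Matrix.det_mul,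
    ← Matrix.det_diagonal (d := fun i => φ (s i)), ← Matrix.det_mul]
  congr 1
  ext i j
  have := congrArg (fun p => φ (pderiv j p)) (h i)
  simp only [map_sum, pderiv_mul, map_add, map_mul, hv, hu, mul_zero, zero_add, Finset.sum_add_distrib,
    Finset.sum_const_zero] at this
  rw [Matrix.diagonal_mul, Matrix.mul_apply]
  simpa using this

variable [Algebra A E]

omit [DecidableEq σ] in
theorem derivation_apply {M : Type u} [AddCommGroup M] [Module A M] [Module E M] [IsScalarTower A E M]
    (D : Derivation A E M) (φ : MvPolynomial σ A →ₐ[A] E) (p : MvPolynomial σ A) :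
    D (φ p) = ∑ j, φ (pderiv j p) • D (φ (X j)) := by
  classical
  induction p using MvPolynomial.induction_on with
  | C a => simp [← MvPolynomial.algebraMap_eq]
  | add p q hp hq => simp [map_add, hp, hq, add_smul, Finset.sum_add_distrib]
  | mul_X p i hp =>
    rw [map_mul, D.leibniz, hp, Finset.smul_sum]
    simp only [pderiv_mul, pderiv_X, map_add, map_mul, add_smul, Finset.sum_add_distrib]
    rw [add_comm]
    congr 1
    · refine Finset.sum_congr rfl fun j _ => ?_
      rw [smul_smul, mul_comm]
    · rw [Finset.sum_eq_single i (fun j _ hj => by simp [Ne.symm hj]) (by simp)]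
      simp

/-- An essentially polynomial algebra cut out by equations with invertible Jacobian is formally unramified. -/
theorem formallyUnramified_of_det (φ : MvPolynomial σ A →ₐ[A] E)
    (hφ : ∀ e : E, ∃ s p : MvPolynomial σ A, IsUnit (φ s) ∧ φ s * e = φ p)
    (u : σ → MvPolynomial σ A) (hu : ∀ i, φ (u i) = 0) (hdet : IsUnit (φ (jac u).det)) :
    Algebra.FormallyUnramified A E := by
  let D := KaehlerDifferential.D A E
  have hX : ∀ j, D (φ (X j)) = 0 := by
    intro k
    have h1 : ∀ i, ∑ j, φ (pderiv j (u i)) • D (φ (X j)) = 0 := fun i => by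
      rw [← derivation_apply D φ (u i), hu, map_zero]
    let N := (jac u).adjugate
    have h2 : ∑ i, φ (N k i) • ∑ j, φ (pderiv j (u i)) • D (φ (X j)) = φ (jac u).det • D (φ (X k)) := by
      simp only [Finset.smul_sum, smul_smul]
      rw [Finset.sum_comm]
      simp only [← Finset.sum_smul, ← map_mul, ← map_sum]
      have h3 : ∀ j, ∑ i, N k i * pderiv j (u i) = (jac u).det * (1 : Matrix σ σ (MvPolynomial σ A)) k j := fun j => by
        rw [← smul_eq_mul, ← Matrix.smul_apply, ← Matrix.adjugate_mul, Matrix.mul_apply]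
        rfl
      simp only [h3, map_mul]
      rw [Finset.sum_eq_single k (fun j _ hj => by simp [Matrix.one_apply_ne (Ne.symm hj)]) (by simp)]
      simp
    simp only [h1, smul_zero, Finset.sum_const_zero] at h2
    exact hdet.smul_eq_zero.1 h2.symm
  have hP : ∀ p, D (φ p) = 0 := fun p => by simp [derivation_apply D φ p, hX]
  have hD : ∀ e, D e = 0 := fun e => by
    obtain ⟨s, p, hs, he⟩ := hφ e
    have := congrArg D he
    rw [D.leibniz, hP s, hP p, smul_zero, add_zero] at this
    exact hs.smul_eq_zero.1 this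
  rw [Algebra.formallyUnramified_iff]
  refine subsingleton_of_forall_eq 0 fun x => ?_
  have hx : x ∈ Submodule.span E (Set.range D) := by
    rw [KaehlerDifferential.span_range_derivation]; exact Submodule.mem_top
  induction hx using Submodule.span_induction with
  | mem y hy => obtain ⟨e, rfl⟩ := hy; exact hD e
  | zero => rfl
  | add a b _ _ ha hb => rw [ha, hb, add_zero]
  | smul c y _ hy => rw [hy, smul_zero]

variable {C : Type u} [CommRing C] [Algebra A C] (π : MvPolynomial σ A →ₐ[A] C)

/-- At an unramified point the Jacobian has a maximal minor which does not vanish. -/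
theorem exists_det_notMem (hπ : Function.Surjective π) (Q : Ideal C) [Q.IsPrime] [Algebra.IsUnramifiedAt A Q] :
    ∃ u : σ → MvPolynomial σ A, (∀ i, π (u i) = 0) ∧ π (jac u).det ∉ Q := by
  classical
  let G : MvPolynomial σ A →ₗ[A] (σ → C) :=
    LinearMap.pi fun j => π.toLinearMap.comp (pderiv j).toLinearMap
  have hG : ∀ p j, G p j = π (pderiv j p) := fun _ _ => rfl
  have hmul : ∀ p q, G (p * q) = π p • G q + π q • G p := fun p q => funext fun j => by
    simp only [hG, Pi.add_apply, Pi.smul_apply, smul_eq_mul, pderiv_mul, map_add, map_mul]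
    ring
  let M : Submodule C (σ → C) :=
    { carrier := {x | ∃ r, π r = 0 ∧ G r = x}
      add_mem' := by
        rintro _ _ ⟨r, hr, rfl⟩ ⟨r', hr', rfl⟩
        exact ⟨r + r', by rw [map_add, hr, hr', add_zero], map_add _ _ _⟩
      zero_mem' := ⟨0, map_zero _, map_zero _⟩
      smul_mem' := by
        rintro c _ ⟨r, hr, rfl⟩
        obtain ⟨p, rfl⟩ := hπ c
        exact ⟨p * r, by rw [map_mul, hr, mul_zero], by rw [hmul, hr, zero_smul, add_zero]⟩ }
  let sec := Function.surjInv hπ
  have hsec : ∀ c, π (sec c) = c := Function.surjInv_eq hπ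
  have hwd : ∀ p q, π p = π q → M.mkQ (G p) = M.mkQ (G q) := fun p q h => by
    rw [← sub_eq_zero, ← map_sub, ← map_sub]
    exact (Submodule.Quotient.mk_eq_zero M).2 ⟨p - q, by rw [map_sub, h, sub_self], rfl⟩
  let dlin : C →ₗ[A] (σ → C) ⧸ M :=
    { toFun := fun c => M.mkQ (G (sec c))
      map_add' := fun a b => by
        rw [hwd (sec (a + b)) (sec a + sec b) (by simp [hsec]), map_add, map_add]
      map_smul' := fun a c => by
        rw [hwd (sec (a • c)) (a • sec c) (by simp [hsec]), map_smul, LinearMap.map_smul_of_tower]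
        rfl }
  let d : Derivation A C ((σ → C) ⧸ M) := Derivation.mk' dlin fun a b => by
    show M.mkQ (G (sec (a * b))) = a • M.mkQ (G (sec b)) + b • M.mkQ (G (sec a))
    rw [hwd (sec (a * b)) (sec a * sec b) (by simp [hsec]), hmul, map_add, map_smul, map_smul, hsec, hsec]
  have hd : ∀ k, d (π (X k)) = M.mkQ (Pi.single k 1) := fun k => by
    show M.mkQ (G (sec (π (X k)))) = _
    rw [hwd _ (X k) (hsec _)]
    congr 1
    funext j
    rw [hG, pderiv_X]
    by_cases hjk : k = j
    · subst hjk; simp
    · simp [hjk, Pi.single_eq_of_ne (Ne.symm hjk)]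
  have hsupp : (⟨Q, inferInstance⟩ : PrimeSpectrum C) ∉ Module.support C Ω[C⁄A] := by
    have : (⟨Q, inferInstance⟩ : PrimeSpectrum C) ∈ Algebra.unramifiedLocus A C :=
      (inferInstance : Algebra.IsUnramifiedAt A Q)
    rwa [Algebra.unramifiedLocus_eq_compl_support] at this
  have key : ∀ k, ∃ s ∉ Q, ∃ r, π r = 0 ∧ G r = s • Pi.single k 1 := fun k => by
    obtain ⟨s, hs, hsk⟩ := Module.notMem_support_iff'.1 hsupp (KaehlerDifferential.D A C (π (X k)))
    have := congrArg d.liftKaehlerDifferential hsk
    rw [map_smul, map_zero, Derivation.liftKaehlerDifferential_comp_D, hd, ← map_smul] at this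
    exact ⟨s, hs, (Submodule.Quotient.mk_eq_zero M).1 this⟩
  choose s hs r hr hGr using key
  refine ⟨r, hr, ?_⟩
  have hmat : π.toRingHom.mapMatrix (jac r) = Matrix.diagonal s := by
    ext i j
    show π (pderiv j (r i)) = _
    rw [← hG, hGr, Matrix.diagonal_apply]
    rcases eq_or_ne i j with rfl | h
    · simp
    · simp [h, Pi.single_eq_of_ne h.symm]
  have : π (jac r).det = ∏ i, s i := by
    rw [← Matrix.det_diagonal, ← hmat]
    exact π.toRingHom.map_det _
  rw [this]
  intro hmem
  obtain ⟨i, -, hi⟩ := (Ideal.IsPrime.prod_mem_iff (p := Q)).1 hmem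
  exact hs i hi

theorem isRegularRing_of_isRegularLocalRing (A : Type u) [CommRing A] [IsRegularLocalRing A] : IsRegularRing A :=
  isRegularRing_iff.2 fun p _ => RegLoc.isRegularLocalRing_localization A p

/-- A surjection from a formally unramified Noetherian local algebra to a formally smooth one is bijective. -/
theorem ker_eq_bot_of_formallyUnramified {A E T : Type u} [CommRing A] [CommRing E] [CommRing T] [Algebra A E] [Algebra A T]
    [IsLocalRing E] [IsNoetherianRing E] [Algebra.FormallyUnramified A E] [Algebra.FormallySmooth A T] [Nontrivial T]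
    (q : E →ₐ[A] T) (hqs : Function.Surjective q) : RingHom.ker q.toRingHom = ⊥ := by
  let K : Ideal E := RingHom.ker q.toRingHom
  let f : E ⧸ K ^ 2 →ₐ[A] T :=
    Ideal.Quotient.liftₐ (K ^ 2) q fun x hx => Ideal.pow_le_self (I := K) two_ne_zero hx
  have hf : Function.Surjective f := fun y => by
    obtain ⟨x, rfl⟩ := hqs y
    exact ⟨Ideal.Quotient.mk _ x, rfl⟩
  have hker : IsNilpotent (RingHom.ker (f : E ⧸ K ^ 2 →+* T)) := by
    refine ⟨2, ?_⟩
    rw [Ideal.zero_eq_bot, eq_bot_iff]
    have h1 : RingHom.ker (f : E ⧸ K ^ 2 →+* T) ≤ K.map (Ideal.Quotient.mk (K ^ 2)) := fun z hz => by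
      obtain ⟨x, rfl⟩ := Ideal.Quotient.mk_surjective z
      exact Ideal.mem_map_of_mem _ (show q x = 0 from hz)
    refine (Ideal.pow_right_mono h1 2).trans ?_
    rw [← Ideal.map_pow, Ideal.map_quotient_self]
  have h1 : (Algebra.FormallySmooth.liftOfSurjective (AlgHom.id A T) f hf hker).comp q =
      Ideal.Quotient.mkₐ A (K ^ 2) :=
    Algebra.FormallyUnramified.ext' (f : E ⧸ K ^ 2 →+* T) hker _ _ fun x =>
      Algebra.FormallySmooth.liftOfSurjective_apply (AlgHom.id A T) f hf hker (q x)
  have hK2 : K ≤ K ^ 2 := fun x hx => by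
    rw [← Ideal.Quotient.eq_zero_iff_mem, ← Ideal.Quotient.mkₐ_eq_mk A, ← h1, AlgHom.comp_apply,
      show q x = 0 from hx, map_zero]
  refine Submodule.eq_bot_of_le_smul_of_le_jacobson_bot (maximalIdeal E) K (IsNoetherian.noetherian K) ?_
    (maximalIdeal_le_jacobson _)
  refine hK2.trans ?_
  rw [sq, smul_eq_mul]
  refine Ideal.mul_mono_left (le_maximalIdeal fun h => ?_)
  have : (1 : E) ∈ K := h ▸ Submodule.mem_top
  exact one_ne_zero ((map_one q).symm.trans this)

/-- The local equations of an étale point. -/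
theorem local_structure [IsRegularLocalRing A] (hπ : Function.Surjective π) (Q : Ideal C) [Q.IsPrime]
    [Algebra.IsEtaleAt A Q] (u : σ → MvPolynomial σ A) (hu : ∀ i, π (u i) = 0) (hdet : π (jac u).det ∉ Q) :
    Ideal.span (Set.range fun i => algebraMap _ (Localization.AtPrime (Q.comap π.toRingHom)) (u i)) =
        RingHom.ker (Localization.localRingHom (Q.comap π.toRingHom) Q π.toRingHom rfl) ∧
      ringKrullDim (Localization.AtPrime Q) + (Fintype.card σ : ℕ) =
        ringKrullDim (Localization.AtPrime (Q.comap π.toRingHom)) := by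
  haveI := isRegularRing_of_isRegularLocalRing A
  let P := MvPolynomial σ A
  let 𝔮 : Ideal P := Q.comap π.toRingHom
  let R := Localization.AtPrime 𝔮
  haveI : IsRegularLocalRing R := IsRegularRing.isRegularLocalRing_localization 𝔮
  let CQ := Localization.AtPrime Q
  let ψ : R →+* CQ := Localization.localRingHom 𝔮 Q π.toRingHom rfl
  have hψs : Function.Surjective ψ := RingHom.surjectiveOnStalks_of_surjective hπ Q ‹_›
  have hψ : ∀ p : P, ψ (algebraMap P R p) = algebraMap C CQ (π p) := fun p => Localization.localRingHom_to_map _ _ _ _ p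
  let e := Fintype.equivFin σ
  let v : Fin (Fintype.card σ) → R := fun i => algebraMap P R (u (e.symm i))
  have hmax : ∀ x : P, algebraMap P R x ∈ maximalIdeal R ↔ π x ∈ Q := fun x =>
    IsLocalization.AtPrime.to_map_mem_maximal_iff R 𝔮 x
  obtain ⟨hreg, hseq⟩ := RegLoc.regular_of_independent _ R v (fun i => (hmax _).2 (by rw [hu]; exact Q.zero_mem))
    (fun a ha => by
      classical
      choose αt hαt using fun i => IsLocalization.surj 𝔮.primeCompl (a i)
      let α : Fin (Fintype.card σ) → P := fun i => (αt i).1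
      let t : Fin (Fintype.card σ) → 𝔮.primeCompl := fun i => (αt i).2
      replace hαt : ∀ i, a i * algebraMap P R (t i) = algebraMap P R (α i) := hαt
      let T : P := ∏ i, (t i : P)
      let β : Fin (Fintype.card σ) → P := fun i => α i * ∏ k ∈ Finset.univ.erase i, (t k : P)
      have hβ : ∀ i, a i * algebraMap P R T = algebraMap P R (β i) := fun i => by
        simp only [T, β, ← Finset.mul_prod_erase Finset.univ (fun k => (t k : P)) (Finset.mem_univ i), map_mul,
          ← mul_assoc, hαt]
      have hT : algebraMap P R (∑ i, β i * u (e.symm i)) ∈ (𝔮 ^ 2).map (algebraMap P R) := by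
        rw [Ideal.map_pow, Localization.AtPrime.map_eq_maximalIdeal, map_sum]
        have : ∑ i, algebraMap P R (β i * u (e.symm i)) = algebraMap P R T * ∑ i, a i * v i := by
          rw [Finset.mul_sum]
          exact Finset.sum_congr rfl fun i _ => by rw [map_mul, ← hβ]; ring
        rw [this]
        exact Ideal.mul_mem_left _ _ ha
      obtain ⟨s, hs, hsx⟩ := (IsLocalization.algebraMap_mem_map_algebraMap_iff 𝔮.primeCompl R _ _).1 hT
      have hcol : ∀ j, ∑ i, π (β i) * π (pderiv j (u (e.symm i))) ∈ Q := fun j => by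
        have h1 : π (pderiv j (s * ∑ i, β i * u (e.symm i))) ∈ Q := pderiv_mem_of_mem_sq (I := 𝔮) hsx j
        rw [pderiv_mul, map_add, map_mul, map_mul, map_sum, map_sum, map_sum] at h1
        simp only [pderiv_mul, map_add, map_mul, hu, mul_zero, Finset.sum_const_zero, zero_add] at h1
        have h2 : ∀ i, π (pderiv j (β i * u (e.symm i))) = π (β i) * π (pderiv j (u (e.symm i))) := fun i => by
          rw [pderiv_mul, map_add]; simp [hu]
        simp only [h2] at h1
        exact ((inferInstance : Q.IsPrime).mem_or_mem h1).resolve_left hs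
      intro i
      have hdi : π (β i) * π (jac u).det ∈ Q := by
        have h2 : ∑ j, (∑ k, π (β k) * π (pderiv j (u (e.symm k)))) * π ((jac u).adjugate j (e.symm i)) ∈ Q :=
          Q.sum_mem fun j _ => Q.mul_mem_right _ (hcol j)
        convert h2 using 1
        simp only [Finset.sum_mul, mul_assoc]
        rw [Finset.sum_comm]
        simp only [← Finset.mul_sum, ← map_mul, ← map_sum]
        have h3 : ∀ k, ∑ j, pderiv j (u (e.symm k)) * (jac u).adjugate j (e.symm i) =
            (jac u).det * (1 : Matrix σ σ P) (e.symm k) (e.symm i) := fun k => by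
          rw [← smul_eq_mul, ← Matrix.smul_apply, ← Matrix.mul_adjugate, Matrix.mul_apply]
          rfl
        simp only [h3]
        rw [Finset.sum_eq_single i (fun k _ hk => by
          simp [Matrix.one_apply_ne (e.symm.injective.ne hk)]) (by simp)]
        simp
      have hbi : π (β i) ∈ Q := ((inferInstance : Q.IsPrime).mem_or_mem hdi).resolve_right hdet
      have := (hmax (β i)).2 hbi
      rw [← hβ] at this
      have hTu : algebraMap P R T ∉ maximalIdeal R := fun h => by
        have hT0 : (∏ k, (t k : P)) ∈ 𝔮 := (hmax T).1 h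
        obtain ⟨k, -, hk⟩ := (Ideal.IsPrime.prod_mem_iff (p := 𝔮)).1 hT0
        exact (t k).2 hk
      exact ((inferInstance : (maximalIdeal R).IsPrime).mem_or_mem this).resolve_right hTu)
  haveI := hreg
  let W := Ideal.span (Set.range v)
  let E := R ⧸ W
  let φ : P →ₐ[A] E := (Ideal.Quotient.mkₐ A W).comp (IsScalarTower.toAlgHom A P R)
  have hφu : ∀ i, φ (u i) = 0 := fun i => Ideal.Quotient.eq_zero_iff_mem.2
    (Ideal.subset_span ⟨e i, by simp [v]⟩)
  haveI : Algebra.FormallyUnramified A E := by
    refine formallyUnramified_of_det φ (fun z => ?_) u hφu ?_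
    · obtain ⟨z, rfl⟩ := Ideal.Quotient.mk_surjective z
      obtain ⟨⟨p, s⟩, hs⟩ := IsLocalization.surj 𝔮.primeCompl z
      refine ⟨s, p, (IsLocalization.map_units R s).map (Ideal.Quotient.mk W), ?_⟩
      show Ideal.Quotient.mk W (algebraMap P R s) * _ = Ideal.Quotient.mk W (algebraMap P R p)
      rw [← map_mul, mul_comm, hs]
    · have : IsUnit (algebraMap P R (jac u).det) := IsLocalization.map_units R (⟨_, hdet⟩ : 𝔮.primeCompl)
      exact this.map (Ideal.Quotient.mk W)
  have hWK : W ≤ RingHom.ker ψ := Ideal.span_le.2 (by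
    rintro _ ⟨i, rfl⟩
    show ψ (algebraMap P R _) = 0
    rw [hψ, hu, map_zero])
  let q : E →ₐ[A] CQ := AlgHom.mk' (Ideal.Quotient.lift W ψ hWK) fun a x => by
    obtain ⟨x, rfl⟩ := Ideal.Quotient.mk_surjective x
    rw [Algebra.smul_def, Algebra.smul_def, map_mul]
    congr 1
    show ψ (algebraMap A R a) = _
    rw [IsScalarTower.algebraMap_apply A P R, hψ, π.commutes, ← IsScalarTower.algebraMap_apply]
  have hqs : Function.Surjective q := fun y => by
    obtain ⟨x, rfl⟩ := hψs y
    exact ⟨Ideal.Quotient.mk W x, rfl⟩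
  haveI : IsLocalRing E := hreg.toIsLocalRing
  haveI : Algebra.FormallySmooth A CQ := inferInstance
  have hK : RingHom.ker q.toRingHom = ⊥ :=
    ker_eq_bot_of_formallyUnramified (A := A) (E := E) (T := CQ) q hqs
  have hkerψ : RingHom.ker ψ = W := le_antisymm (fun x hx => by
    have : Ideal.Quotient.mk W x ∈ RingHom.ker q.toRingHom := hx
    rw [hK, Ideal.mem_bot, Ideal.Quotient.eq_zero_iff_mem] at this
    exact this) hWK
  have hW : Ideal.span (Set.range fun i => algebraMap P R (u i)) = W :=
    congrArg Ideal.span (e.symm.surjective.range_comp fun i => algebraMap P R (u i)).symm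
  refine ⟨hW.trans hkerψ.symm, ?_⟩
  have hd := ringKrullDim_add_length_eq_ringKrullDim_of_isRegular (List.ofFn v) hseq
  rw [List.length_ofFn] at hd
  have hE : Ideal.ofList (List.ofFn v) = RingHom.ker ψ := by
    rw [hkerψ]; exact congrArg Ideal.span (by ext x; simp [List.mem_ofFn])
  have h3 : ringKrullDim (R ⧸ RingHom.ker ψ) = ringKrullDim CQ :=
    ringKrullDim_eq_of_ringEquiv (RingHom.quotientKerEquivOfSurjective hψs)
  rw [← hd, hE, h3]

end Groth.Agent.Ram25
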