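import Groth.Agent.Lib.CAlgLow.AnUnram
import Groth.Agent.Lib.CAlgLow.NagataFT
import Groth.Agent.Lib.CplDomain.Nagata
import Groth.Agent.Lib.Compl.Dim
import Groth.Agent.Lib.RegLoc.Basic

/-!
# Finiteness of normalisation over regular local rings, separable case
-/

set_option autoImplicit false

universe u

open TensorProduct IsLocalRing

noncomputable section

namespace Groth.Agent.Ram25

/-- A domain of finite type over a regular local ring with separable fraction field has finite normalisation. -/
theorem finite_integralClosure {A S : Type u} [CommRing A] [IsRegularLocalRing A] [CommRing S] [IsDomain S]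
    [Algebra A S] [Algebra.FiniteType A S] (K L : Type u) [Field K] [Algebra A K] [IsFractionRing A K]
    [Field L] [Algebra S L] [IsFractionRing S L] [Algebra K L] [Algebra A L] [IsScalarTower A K L]
    [IsScalarTower A S L] [Algebra.IsSeparable K L] :
    Module.Finite S (integralClosure S L) := by
  haveI := RegLoc.isDomain A
  let Ah := AdicCompletion (maximalIdeal A) A
  haveI hreg : IsRegularLocalRing Ah := (Compl.isRegularLocalRing_adicCompletion_iff A).1 inferInstance
  haveI := RegLoc.isDomain Ah
  haveI : Module.Flat A Ah := inferInstance
  haveI : Module.FaithfullyFlat A Ah := Module.FaithfullyFlat.of_flat_of_isLocalHom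
  have hN : CAlg.IsNagata (S ⊗[A] Ah) := by
    refine CAlgLow.isNagata_of_surjective
      (CAlgLow.isNagata_of_finiteType (CplDomain.isNagata_of_complete Ah) (Ah ⊗[A] S))
      (Algebra.TensorProduct.comm A Ah S).toRingEquiv.toRingHom ?_
    exact (Algebra.TensorProduct.comm A Ah S).surjective
  let B := S ⊗[A] Ah
  let R := FractionRing B
  -- `B` is reduced
  let Kh := FractionRing Ah
  have hinjA : Function.Injective (algebraMap A Ah) := FaithfulSMul.algebraMap_injective A Ah
  haveI : IsReduced B := by
    letI : Algebra K Kh := (IsFractionRing.lift (A := A) (K := K)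
      (g := (algebraMap Ah Kh).comp (algebraMap A Ah))
      ((IsFractionRing.injective Ah Kh).comp hinjA)).toAlgebra
    haveI : IsScalarTower A K Kh := IsScalarTower.of_algebraMap_eq fun a => by
      rw [RingHom.algebraMap_toAlgebra, IsFractionRing.lift_algebraMap]
      rfl
    haveI : Algebra.FormallyUnramified K L := Algebra.FormallyUnramified.of_isSeparable K L
    haveI : Module.Finite K L := by
      haveI : Algebra.EssFiniteType S L := Algebra.EssFiniteType.of_isLocalization L (nonZeroDivisors S)
      haveI : Algebra.EssFiniteType A L := Algebra.EssFiniteType.comp A S L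
      haveI : Algebra.EssFiniteType K L := Algebra.EssFiniteType.of_comp A K L
      exact Algebra.FormallyUnramified.finite_of_free K L
    haveI : IsReduced (Kh ⊗[K] L) := Algebra.FormallyUnramified.isReduced_of_field Kh (Kh ⊗[K] L)
    haveI : Module.Flat A L := by
      haveI : Module.Flat A K := IsLocalization.flat K (nonZeroDivisors A)
      exact Module.Flat.trans A K L
    haveI : CompatibleSMul A K Kh L := IsLocalization.tensorProduct_compatibleSMul (nonZeroDivisors A) K Kh L
    let φ : B →ₐ[A] Kh ⊗[A] L :=
      (Algebra.TensorProduct.comm A L Kh).toAlgHom.comp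
        (Algebra.TensorProduct.map (IsScalarTower.toAlgHom A S L) (IsScalarTower.toAlgHom A Ah Kh))
    have hφ : Function.Injective φ := by
      have h1 : Function.Injective (LinearMap.rTensor Ah (IsScalarTower.toAlgHom A S L).toLinearMap) :=
        Module.Flat.rTensor_preserves_injective_linearMap _ (IsFractionRing.injective S L)
      have h2 : Function.Injective (LinearMap.lTensor L (IsScalarTower.toAlgHom A Ah Kh).toLinearMap) :=
        Module.Flat.lTensor_preserves_injective_linearMap _ (IsFractionRing.injective Ah Kh)
      have h3 : ∀ x : B, φ x = Algebra.TensorProduct.comm A L Kh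
          (LinearMap.lTensor L (IsScalarTower.toAlgHom A Ah Kh).toLinearMap
            (LinearMap.rTensor Ah (IsScalarTower.toAlgHom A S L).toLinearMap x)) := by
        intro x
        induction x using TensorProduct.induction_on with
        | zero => simp
        | add x y hx hy => simp only [map_add, hx, hy]
        | tmul s a => rfl
      intro x y hxy
      rw [h3, h3] at hxy
      exact h1 (h2 ((Algebra.TensorProduct.comm A L Kh).injective hxy))
    let ψ : Kh ⊗[A] L →ₐ[A] Kh ⊗[K] L :=
      Algebra.TensorProduct.lift ((Algebra.TensorProduct.includeLeft : Kh →ₐ[A] Kh ⊗[K] L))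
        ((Algebra.TensorProduct.includeRight : L →ₐ[K] Kh ⊗[K] L).restrictScalars A) fun _ _ => Commute.all _ _
    have hψ : Function.Injective ψ := by
      have : (ψ : Kh ⊗[A] L → Kh ⊗[K] L) = (TensorProduct.equivOfCompatibleSMul K A A Kh L) := by
        funext x
        induction x using TensorProduct.induction_on with
        | zero => simp
        | add x y hx hy => simp only [map_add, hx, hy]
        | tmul s a =>
          simp only [ψ, Algebra.TensorProduct.lift_tmul, Algebra.TensorProduct.includeLeft_apply,
            AlgHom.restrictScalars_apply, Algebra.TensorProduct.includeRight_apply,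
            Algebra.TensorProduct.tmul_mul_tmul, mul_one, one_mul]
          rfl
      rw [this]
      exact LinearEquiv.injective _
    exact isReduced_of_injective (ψ.comp φ) (hψ.comp hφ)
  haveI : IsReduced R := isReduced_localizationPreserves (nonZeroDivisors B) R inferInstance
  haveI : IsNoetherianRing B := hN.1
  haveI : Module.FaithfullyFlat S B := inferInstance
  haveI : IsScalarTower S B R := inferInstance
  letI : Algebra (FractionRing S) L := FractionRing.liftAlgebra S L
  haveI : IsScalarTower S (FractionRing S) L := FractionRing.isScalarTower_liftAlgebra S L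
  haveI : IsFractionRing S L := inferInstance
  haveI : Module.Finite (FractionRing S) L :=
    Module.Finite.of_surjective (Algebra.linearMap (FractionRing S) L)
      (fun z => ⟨(FractionRing.algEquiv S L).symm z, by
        obtain ⟨w, rfl⟩ := (FractionRing.algEquiv S L).surjective z
        rw [AlgEquiv.symm_apply_apply]
        obtain ⟨a, b, hb, rfl⟩ := IsFractionRing.div_surjective S w
        simp [← IsScalarTower.algebraMap_apply]⟩)
  have hunit : ∀ a : S, a ≠ 0 → IsUnit (algebraMap S R a) := AnUnram.isUnit_algebraMap_of_flat B R
  haveI : IsReduced (R ⊗[S] L) := by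
    have hsub : ∀ x : nonZeroDivisors S, IsUnit (algebraMap S R x) := fun x => hunit x.1 (nonZeroDivisors.ne_zero x.2)
    let e : L →ₐ[S] R := IsLocalization.liftAlgHom (M := nonZeroDivisors S) (S := L) (f := Algebra.ofId S R) hsub
    let θ : R ⊗[S] L →ₐ[S] R := Algebra.TensorProduct.lift (AlgHom.id S R) e fun _ _ => Commute.all _ _
    refine isReduced_of_injective θ.toRingHom ?_
    have hθ : ∀ z : R ⊗[S] L, z = θ z ⊗ₜ[S] (1 : L) := by
      intro z
      induction z using TensorProduct.induction_on with
      | zero => simp
      | add x y hx hy => rw [map_add, TensorProduct.add_tmul, ← hx, ← hy]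
      | tmul r l =>
        obtain ⟨⟨a, s⟩, hs⟩ := IsLocalization.surj (nonZeroDivisors S) l
        obtain ⟨v, hv⟩ := hsub s
        have he : e l * algebraMap S R s = algebraMap S R a := by
          have := congrArg e hs
          rwa [map_mul, e.commutes, e.commutes] at this
        have h1 : ∀ x : R, ∀ y : L, (x * algebraMap S R s) ⊗ₜ[S] y = x ⊗ₜ[S] (y * algebraMap S L s) := fun x y => by
          rw [mul_comm, ← Algebra.smul_def, smul_tmul, Algebra.smul_def, mul_comm]
        have h2 : ∀ x : R, (x * algebraMap S R a) ⊗ₜ[S] (1 : L) = x ⊗ₜ[S] algebraMap S L a := fun x => by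
          rw [mul_comm, ← Algebra.smul_def, smul_tmul, Algebra.smul_def, mul_one]
        have h3 : r = r * ↑v⁻¹ * algebraMap S R s := by rw [← hv, Units.inv_mul_cancel_right]
        simp only [θ, Algebra.TensorProduct.lift_tmul, AlgHom.id_apply]
        conv_lhs => rw [h3, h1, hs, ← h2]
        congr 1
        rw [← he, ← hv, mul_comm (e l), ← mul_assoc, Units.inv_mul_cancel_right]
    intro x y hxy
    rw [hθ x, hθ y]
    exact congrArg (fun w : R => w ⊗ₜ[S] (1 : L)) hxy
  exact AnUnram.finite_integralClosure_of_isReduced_fibre B hN (nonZeroDivisors B) R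
    (IsFractionRing.injective B R) hunit L

end Groth.Agent.Ram25
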