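import Groth.Agent.Lib.Ram25.Core
import Groth.Agent.Lib.Ram25.NormFinite
import Groth.Agent.Lib.Pur25.DepthTwo
import Groth.Agent.Lib.SmoothReg17.Basic
import Groth.Agent.Lib.VarDim.Alg
import Groth.Agent.Lib.CAlgLow.QFIsolated
import Groth.Agent.Lib.RegLoc.UFD
import Mathlib.RingTheory.DiscreteValuationRing.TFAE
import Mathlib.RingTheory.Unramified.LocalRing

/-!
# Étale off the closed point implies quasi-finite
-/

set_option autoImplicit false

universe u

open IsLocalRing
open scoped TensorProduct

noncomputable section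

namespace Groth.Agent.Ram25

variable {A : Type u} [CommRing A] [IsLocalRing A]

theorem isLocalHom_localization {C : Type u} [CommRing C] [Algebra A C] (P : Ideal C) [P.IsPrime]
    (hP : P.comap (algebraMap A C) = maximalIdeal A) :
    IsLocalHom (algebraMap A (Localization.AtPrime P)) := by
  refine ⟨fun a ha => ?_⟩
  by_contra h
  have h1 : algebraMap A C a ∈ P := by
    show a ∈ P.comap (algebraMap A C)
    rw [hP]; exact h
  rw [IsScalarTower.algebraMap_apply A C (Localization.AtPrime P)] at ha
  exact (IsLocalization.AtPrime.isUnit_to_map_iff (Localization.AtPrime P) P _).1 ha h1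

/-- An unramified point over the closed point has a finite residue field. -/
theorem finite_residueField_of_unramified {C : Type u} [CommRing C] [Algebra A C] [Algebra.FiniteType A C]
    (P : Ideal C) [P.IsPrime] (hP : P.comap (algebraMap A C) = maximalIdeal A)
    [Algebra.FormallyUnramified A (Localization.AtPrime P)] :
    Module.Finite A (ResidueField (Localization.AtPrime P)) := by
  haveI := isLocalHom_localization P hP
  haveI : Algebra.EssFiniteType C (Localization.AtPrime P) :=
    Algebra.EssFiniteType.of_isLocalization _ P.primeCompl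
  haveI : Algebra.EssFiniteType A (Localization.AtPrime P) := Algebra.EssFiniteType.comp A C _
  exact Module.Finite.trans (ResidueField A) _

/-- A point over the closed point with finite residue field is closed. -/
theorem isMaximal_of_finite_residueField [IsNoetherianRing A] {C : Type u} [CommRing C] [Algebra A C]
    (P : Ideal C) [P.IsPrime] (hP : P.comap (algebraMap A C) = maximalIdeal A)
    [Module.Finite A (ResidueField (Localization.AtPrime P))] : P.IsMaximal := by
  let φ : C →ₐ[A] ResidueField (Localization.AtPrime P) :=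
    IsScalarTower.toAlgHom A C (ResidueField (Localization.AtPrime P))
  have hker : RingHom.ker φ.toRingHom = P := by
    ext x
    show algebraMap C (ResidueField (Localization.AtPrime P)) x = 0 ↔ _
    rw [IsScalarTower.algebraMap_apply C (Localization.AtPrime P), ResidueField.algebraMap_eq, residue_eq_zero_iff,
      IsLocalization.AtPrime.to_map_mem_maximal_iff (Localization.AtPrime P) P]
  let ψ : (C ⧸ P) →ₐ[A] ResidueField (Localization.AtPrime P) :=
    Ideal.Quotient.liftₐ P φ fun x hx => hker.ge hx
  have hψ : Function.Injective ψ := (injective_iff_map_eq_zero _).2 fun y hy => by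
    obtain ⟨x, rfl⟩ := Ideal.Quotient.mk_surjective y
    exact Ideal.Quotient.eq_zero_iff_mem.2 (hker.le hy)
  haveI : Module.Finite A (C ⧸ P) := Module.Finite.of_injective ψ.toLinearMap hψ
  haveI : Algebra.IsIntegral A (C ⧸ P) := Algebra.IsIntegral.of_finite A (C ⧸ P)
  have hcomap : (⊥ : Ideal (C ⧸ P)).comap (algebraMap A (C ⧸ P)) = maximalIdeal A := by
    rw [← hP]
    ext a
    exact Ideal.Quotient.eq_zero_iff_mem
  have hmax : (⊥ : Ideal (C ⧸ P)).IsMaximal :=
    Ideal.isMaximal_of_isIntegral_of_isMaximal_comap _ (by rw [hcomap]; exact maximalIdeal.isMaximal A)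
  exact (Ideal.Quotient.maximal_ideal_iff_isField_quotient P).2 (Ring.isField_iff_maximal_bot.2 hmax)

/-- No generization in the closed fibre. -/
theorem comap_ne_maximalIdeal [IsNoetherianRing A] {C : Type u} [CommRing C] [Algebra A C] [Algebra.FiniteType A C]
    {P n : Ideal C} [P.IsPrime] [n.IsPrime] (h : P < n) [Algebra.IsEtaleAt A P] :
    P.comap (algebraMap A C) ≠ maximalIdeal A := fun hP => by
  haveI := finite_residueField_of_unramified P hP
  haveI := isMaximal_of_finite_residueField P hP
  exact h.ne (Ideal.IsMaximal.eq_of_le inferInstance (Ideal.IsPrime.ne_top inferInstance) h.le)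

/-- Elements integral over a normal domain and in its fraction field belong to it. -/
theorem exists_eq_of_integral {E T : Type u} [CommRing E] [IsDomain E] [IsIntegrallyClosed E] [CommRing T] [IsDomain T]
    (θ : E →+* T) (hθ : Function.Injective θ) {se ae : E} {z : T} (hse : θ se ≠ 0) (h : θ se * z = θ ae)
    {p : Polynomial E} (hp : p.Monic) (hpz : p.eval₂ θ z = 0) : ∃ e : E, θ e = z := by
  let Θ : FractionRing E →+* FractionRing T := IsFractionRing.map hθ
  have hΘ : ∀ e : E, Θ (algebraMap E (FractionRing E) e) = algebraMap T (FractionRing T) (θ e) :=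
    fun e => IsLocalization.map_eq _ _
  let x : FractionRing E := algebraMap E (FractionRing E) ae / algebraMap E (FractionRing E) se
  have hT0 : algebraMap T (FractionRing T) (θ se) ≠ 0 := fun h' =>
    hse (IsFractionRing.injective T (FractionRing T) (h'.trans (map_zero _).symm))
  have hx : Θ x = algebraMap T (FractionRing T) z := by
    rw [map_div₀, hΘ, hΘ, div_eq_iff hT0, ← map_mul, mul_comm z, h]
  have hxi : IsIntegral E x := by
    refine ⟨p, hp, Θ.injective ?_⟩
    rw [map_zero, Polynomial.hom_eval₂, hx,
      show Θ.comp (algebraMap E (FractionRing E)) = (algebraMap T (FractionRing T)).comp θ from RingHom.ext hΘ,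
      ← Polynomial.hom_eval₂, hpz, map_zero]
  obtain ⟨e, he⟩ := IsIntegrallyClosed.isIntegral_iff.1 hxi
  exact ⟨e, IsFractionRing.injective T (FractionRing T) (by rw [← hΘ, he, hx])⟩

/-- On a branch over a regular divisor the points where the total space is étale are étale. -/
theorem isEtaleAt_branch {A A₀ C Ct : Type u} [CommRing A] [CommRing A₀] [IsRegularLocalRing A₀] [Algebra A A₀]
    (hA₀ : Function.Surjective (algebraMap A A₀)) [CommRing C] [Algebra A C] [Algebra.FinitePresentation A C]
    (P₀ : Ideal C) [P₀.IsPrime] (hmin : ∀ P' : Ideal C, P'.IsPrime →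
      (∀ a ∈ RingHom.ker (algebraMap A A₀), algebraMap A C a ∈ P') → P' ≤ P₀ → P' = P₀)
    [CommRing Ct] [IsDomain Ct] [Algebra A Ct] [Algebra A₀ Ct] [IsScalarTower A A₀ Ct]
    (β : C →ₐ[A] Ct) (hβ : ∀ x, β x = 0 ↔ x ∈ P₀) (hint : ∀ z : Ct, β.toRingHom.IsIntegralElem z)
    (hfrac : ∀ z : Ct, ∃ s a : C, s ∉ P₀ ∧ β s * z = β a)
    (Q : Ideal Ct) [Q.IsPrime] [Algebra.IsEtaleAt A (Q.comap β.toRingHom)] :
    Algebra.IsEtaleAt A₀ Q := by
  let C₁ := A₀ ⊗[A] C
  let ι : C →ₐ[A] C₁ := Algebra.TensorProduct.includeRight
  have hι : Function.Surjective ι := fun y => by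
    induction y using TensorProduct.induction_on with
    | zero => exact ⟨0, map_zero _⟩
    | tmul a c =>
      obtain ⟨r, rfl⟩ := hA₀ a
      refine ⟨r • c, ?_⟩
      show (1 : A₀) ⊗ₜ[A] (r • c) = _
      rw [TensorProduct.tmul_smul, TensorProduct.smul_tmul', Algebra.algebraMap_eq_smul_one]
    | add x y hx hy =>
      obtain ⟨a, ha⟩ := hx
      obtain ⟨b, hb⟩ := hy
      exact ⟨a + b, by rw [map_add, ha, hb]⟩
  let γ : C₁ →ₐ[A₀] Ct := Algebra.TensorProduct.lift (Algebra.ofId A₀ Ct) β fun _ _ => Commute.all _ _
  have hγ : ∀ x, γ (ι x) = β x := fun x => by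
    show Algebra.ofId A₀ Ct 1 * β x = β x
    rw [map_one, one_mul]
  let P₁ : Ideal C₁ := Q.comap γ.toRingHom
  haveI het₁ : Algebra.IsEtaleAt A₀ P₁ := by
    refine Pur25.isEtaleAt_baseChange P₁ ?_
    have h1 : P₁.comap (Algebra.TensorProduct.includeRight (R := A) (A := A₀) (B := C)).toRingHom = Q.comap β.toRingHom := by
      ext x
      show γ (ι x) ∈ Q ↔ β x ∈ Q
      rw [hγ]
    simp only [h1]
    infer_instance
  haveI : Algebra.FinitePresentation A₀ C₁ := inferInstance
  let E := Localization.AtPrime P₁
  haveI : IsRegularLocalRing E := by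
    obtain ⟨g, hg, _⟩ := Algebra.exists_etale_of_isEtaleAt (R := A₀) P₁
    haveI : IsRegularRing A₀ := isRegularRing_of_isRegularLocalRing A₀
    let B := Localization.Away g
    have hdisj : Disjoint (Submonoid.powers g : Set C₁) (P₁ : Set C₁) :=
      Set.disjoint_left.2 fun z ⟨k, hk⟩ hz => hg (Ideal.IsPrime.mem_of_pow_mem inferInstance k (by simp only at hk; rw [hk]; exact hz))
    let q : Ideal B := P₁.map (algebraMap C₁ B)
    haveI : q.IsPrime := IsLocalization.isPrime_of_isPrime_disjoint (Submonoid.powers g) B P₁ inferInstance hdisj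
    have hqc : q.comap (algebraMap C₁ B) = P₁ :=
      IsLocalization.comap_map_of_isPrime_disjoint (Submonoid.powers g) B inferInstance hdisj
    haveI : IsLocalization.AtPrime (Localization.AtPrime q) P₁ := by
      have := IsLocalization.isLocalization_isLocalization_atPrime_isLocalization (Submonoid.powers g) (Localization.AtPrime q) q
      simpa only [hqc] using this
    haveI := SmoothReg17.isRegularLocalRing_of_etale (A := A₀) q
    exact IsRegularLocalRing.of_ringEquiv
      (IsLocalization.algEquiv P₁.primeCompl (Localization.AtPrime q) E).toRingEquiv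
  haveI := RegLoc.isDomain E
  haveI := RegLoc.ufd_of_isRegularLocalRing E
  haveI : IsIntegrallyClosed E := inferInstance
  let T := Localization.AtPrime Q
  haveI : IsDomain T := IsLocalization.isDomain_of_atPrime T Q
  have hTinj : Function.Injective (algebraMap Ct T) := IsLocalization.injective T Q.primeCompl_le_nonZeroDivisors
  let θ : E →ₐ[A₀] T := Localization.localAlgHom P₁ Q γ (Ideal.ext fun _ => Iff.rfl)
  have hθ : ∀ x : C₁, θ (algebraMap C₁ E x) = algebraMap Ct T (γ x) := fun x =>
    Localization.localRingHom_to_map P₁ Q γ.toRingHom rfl x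
  -- injectivity
  have hker : RingHom.ker θ.toRingHom = ⊥ := by
    let K₀ := RingHom.ker θ.toRingHom
    haveI : K₀.IsPrime := RingHom.ker_isPrime _
    have hle : ∀ (K : Ideal E), K.IsPrime → K ≤ K₀ → (K.comap (algebraMap C₁ E)).comap ι.toRingHom = P₀ := by
      intro K hK hKle
      refine hmin _ inferInstance (fun a ha => ?_) fun x hx => ?_
      · show algebraMap C₁ E (ι (algebraMap A C a)) ∈ K
        rw [ι.commutes, IsScalarTower.algebraMap_apply A A₀ C₁, RingHom.mem_ker.1 ha, map_zero, map_zero]
        exact K.zero_mem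
      · refine (hβ x).1 (hTinj ?_)
        have h1 : θ (algebraMap C₁ E (ι x)) = 0 := hKle hx
        rw [hθ, hγ] at h1
        rw [h1, map_zero]
    have e1 := hle ⊥ Ideal.isPrime_bot bot_le
    have e2 := hle K₀ inferInstance le_rfl
    have e3 : (⊥ : Ideal E).comap (algebraMap C₁ E) = K₀.comap (algebraMap C₁ E) :=
      Ideal.comap_injective_of_surjective ι.toRingHom hι (e1.trans e2.symm)
    have := congrArg (Ideal.map (algebraMap C₁ E)) e3
    rw [← Ideal.under_def, ← Ideal.under_def, IsLocalization.map_under P₁.primeCompl,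
      IsLocalization.map_under P₁.primeCompl] at this
    exact this.symm
  have hθi : Function.Injective θ := (RingHom.injective_iff_ker_eq_bot θ.toRingHom).2 hker
  -- surjectivity
  have hCt : ∀ z : Ct, ∃ e : E, θ e = algebraMap Ct T z := by
    intro z
    obtain ⟨s, a, hs, hsz⟩ := hfrac z
    obtain ⟨p, hp, hpz⟩ := hint z
    refine exists_eq_of_integral θ.toRingHom hθi (se := algebraMap C₁ E (ι s)) (ae := algebraMap C₁ E (ι a)) ?_ ?_
      (p := p.map ((algebraMap C₁ E).comp ι.toRingHom)) (hp.map _) ?_
    · show θ _ ≠ 0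
      rw [hθ, hγ]
      exact fun h => hs ((hβ s).1 (hTinj (h.trans (map_zero _).symm)))
    · show θ _ * _ = θ _
      rw [hθ, hθ, hγ, hγ, ← map_mul, hsz]
    · rw [Polynomial.eval₂_map]
      have : θ.toRingHom.comp ((algebraMap C₁ E).comp ι.toRingHom) = (algebraMap Ct T).comp β.toRingHom :=
        RingHom.ext fun c => by
          show θ (algebraMap C₁ E (ι c)) = algebraMap Ct T (β c)
          rw [hθ, hγ]
      rw [this, ← Polynomial.hom_eval₂, hpz, map_zero]
  have hθs : Function.Surjective θ := by
    intro y
    obtain ⟨⟨z, t⟩, hzt⟩ := IsLocalization.surj Q.primeCompl y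
    obtain ⟨ez, hez⟩ := hCt z
    obtain ⟨et, het⟩ := hCt t
    haveI : IsLocalHom θ.toRingHom := inferInstanceAs (IsLocalHom (Localization.localRingHom P₁ Q γ.toRingHom rfl))
    obtain ⟨v, hv⟩ := isUnit_of_map_unit θ.toRingHom et (by
      show IsUnit (θ et)
      rw [het]; exact IsLocalization.map_units T t)
    refine ⟨ez * ↑v⁻¹, ?_⟩
    apply (IsLocalization.map_units T t).mul_right_cancel
    rw [hzt, map_mul, hez, mul_assoc, ← het, ← hv, ← map_mul, Units.inv_mul, map_one, mul_one]
  exact Algebra.FormallyEtale.of_equiv (A := E) (B := T) (AlgEquiv.ofBijective θ ⟨hθi, hθs⟩)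

end Groth.Agent.Ram25
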