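import Groth.Agent.Lib.Ram25.Jac
import Groth.Agent.Lib.KoszulColon25.Basic
import Groth.Agent.Lib.CAlgLow.NormalInter

/-!
# The colon ideal of a complete intersection containing an étale scheme
-/

set_option autoImplicit false

universe u

open MvPolynomial IsLocalRing RingTheory.Sequence

noncomputable section

namespace Groth.Agent.Ram25

/-- The kernel of the localization of a surjection. -/
theorem ker_localRingHom {R B : Type u} [CommRing R] [CommRing B] (π : R →+* B)
    (hπ : Function.Surjective π) (P : Ideal B) [P.IsPrime] :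
    RingHom.ker (Localization.localRingHom (P.comap π) P π rfl) =
      (RingHom.ker π).map (algebraMap R (Localization.AtPrime (P.comap π))) := by
  refine le_antisymm (fun x hx => ?_) (Ideal.map_le_iff_le_comap.2 fun a ha => ?_)
  · obtain ⟨a, s, rfl⟩ := IsLocalization.exists_mk'_eq (P.comap π).primeCompl x
    rw [RingHom.mem_ker, Localization.localRingHom_mk', IsLocalization.mk'_eq_zero_iff] at hx
    obtain ⟨⟨t, ht⟩, hta⟩ := hx
    obtain ⟨t', rfl⟩ := hπ t
    rw [IsLocalization.mk'_mem_iff,
      ← Ideal.unit_mul_mem_iff_mem _ (IsLocalization.map_units _ (⟨t', ht⟩ : (P.comap π).primeCompl)),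
      ← map_mul]
    refine Ideal.mem_map_of_mem _ ?_
    rw [RingHom.mem_ker, map_mul]
    exact hta
  · show Localization.localRingHom (P.comap π) P π rfl (algebraMap R _ a) = 0
    rw [Localization.localRingHom_to_map, RingHom.mem_ker.1 ha, map_zero]

/-- Denominators can be cleared simultaneously in a finitely generated ideal. -/
theorem exists_mul_mem_of_fg {P : Type u} [CommRing P] (M : Submonoid P) {K L : Ideal P} (hK : K.FG)
    (h : ∀ x ∈ K, ∃ t ∈ M, t * x ∈ L) : ∃ t ∈ M, ∀ x ∈ K, t * x ∈ L := by
  classical
  obtain ⟨S, rfl⟩ := hK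
  choose t ht htx using h
  let τ : P → P := fun x => if hx : x ∈ Ideal.span (S : Set P) then t x hx else 1
  refine ⟨∏ x ∈ S, τ x, M.prod_mem fun x hx => ?_, ?_⟩
  · rw [show τ x = t x (Ideal.subset_span hx) from dif_pos _]
    exact ht _ _
  · intro x hx
    induction hx using Submodule.span_induction with
    | mem y hy =>
      rw [← Finset.prod_erase_mul _ _ hy, mul_assoc]
      refine L.mul_mem_left _ ?_
      rw [show τ y = t y (Ideal.subset_span hy) from dif_pos _]
      exact htx _ _
    | zero => rw [mul_zero]; exact L.zero_mem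
    | add a b _ _ ha hb => rw [mul_add]; exact L.add_mem ha hb
    | smul c a _ ha => rw [smul_eq_mul, mul_left_comm]; exact L.mul_mem_left _ ha

variable {A C : Type u} [CommRing A] [IsRegularLocalRing A] [CommRing C] [Algebra A C]
  {N : ℕ} (π : MvPolynomial (Fin N) A →ₐ[A] C) (hπ : Function.Surjective π)

include hπ

/-- The colon of a complete intersection by the ideal of a normal scheme which is étale off the closed point
is generated by the Jacobian. -/
theorem det_dvd_of_colon (n : Ideal C) [n.IsPrime] [IsNoetherianRing C] [IsDomain (Localization.AtPrime n)]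
    [IsIntegrallyClosed (Localization.AtPrime n)] (hdim : (2 : WithBot ℕ∞) ≤ ringKrullDim (Localization.AtPrime n))
    (het : ∀ (P : Ideal C) (_ : P.IsPrime), P < n → Algebra.IsEtaleAt A P)
    (g : Fin N → MvPolynomial (Fin N) A) (hg : ∀ i, π (g i) = 0)
    (hreg : IsWeaklyRegular (Localization.AtPrime (n.comap π.toRingHom))
      (List.ofFn fun i => algebraMap _ (Localization.AtPrime (n.comap π.toRingHom)) (g i)))
    (hdet : algebraMap C (Localization.AtPrime n) (π (jac g).det) ≠ 0)
    (c : MvPolynomial (Fin N) A)
    (hc : ∀ x, π x = 0 → algebraMap _ (Localization.AtPrime (n.comap π.toRingHom)) (c * x) ∈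
      Ideal.span (Set.range fun i => algebraMap _ (Localization.AtPrime (n.comap π.toRingHom)) (g i))) :
    algebraMap C (Localization.AtPrime n) (π (jac g).det) ∣ algebraMap C (Localization.AtPrime n) (π c) := by
  classical
  refine NormalInter.dvd_of_forall_height_one hdet fun q hq hq1 => ?_
  let Q : Ideal C := q.comap (algebraMap C (Localization.AtPrime n))
  have hQn : Q < n := by
    refine lt_of_le_of_ne ((Ideal.comap_mono (le_maximalIdeal hq.ne_top)).trans
      (Localization.AtPrime.comap_maximalIdeal (I := n)).le) fun h => ?_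
    have h1 : ringKrullDim (Localization.AtPrime n) = n.height :=
      IsLocalization.AtPrime.ringKrullDim_eq_height n _
    rw [h1, ← h, show Q.height = q.height from IsLocalization.height_under (R := C) n.primeCompl q, hq1] at hdim
    exact absurd (WithBot.coe_le_coe.1 hdim : (2 : ℕ∞) ≤ 1) (by decide)
  haveI := het Q inferInstance hQn
  haveI : Algebra.IsUnramifiedAt A Q := inferInstanceAs (Algebra.FormallyUnramified A (Localization.AtPrime Q))
  obtain ⟨u, hu, hdu⟩ := exists_det_notMem π hπ Q
  obtain ⟨hspan, -⟩ := local_structure π hπ Q u hu hdu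
  let P := MvPolynomial (Fin N) A
  let 𝔮 : Ideal P := Q.comap π.toRingHom
  let RQ := Localization.AtPrime 𝔮
  haveI : IsRegularRing A := isRegularRing_of_isRegularLocalRing A
  have hIspan : ∀ x, π x = 0 → ∃ s ∈ 𝔮.primeCompl, s * x ∈ Ideal.span (Set.range u) := fun x hx => by
    refine (IsLocalization.algebraMap_mem_map_algebraMap_iff 𝔮.primeCompl RQ _ _).1 ?_
    rw [Ideal.map_span, ← Set.range_comp]
    refine hspan.ge ?_
    show Localization.localRingHom 𝔮 Q π.toRingHom rfl (algebraMap P RQ x) = 0
    rw [Localization.localRingHom_to_map]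
    show algebraMap C _ (π x) = 0
    rw [hx, map_zero]
  choose s hs hsg using fun i => hIspan (g i) (hg i)
  choose M hM using fun i => (Submodule.mem_span_range_iff_exists_fun _).1 (hsg i)
  let φ : P →+* Localization.AtPrime Q := (algebraMap C (Localization.AtPrime Q)).comp π.toRingHom
  have hchain := chain_rule φ g u s (Matrix.of M) (fun i => by simpa [smul_eq_mul] using (hM i).symm)
    (fun i => by simp [φ, hg]) (fun i => by simp [φ, hu])
  -- the colon ideal
  have hle : (n.comap π.toRingHom).primeCompl ≤ 𝔮.primeCompl := fun z hz hz' => hz (hQn.le hz')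
  let R := Localization.AtPrime (n.comap π.toRingHom)
  letI : Algebra R RQ := IsLocalization.localizationAlgebraOfSubmonoidLe _ _ (n.comap π.toRingHom).primeCompl 𝔮.primeCompl hle
  haveI := IsLocalization.localization_isScalarTower_of_submonoid_le R RQ (n.comap π.toRingHom).primeCompl 𝔮.primeCompl hle
  haveI := IsLocalization.isLocalization_of_submonoid_le R RQ (n.comap π.toRingHom).primeCompl 𝔮.primeCompl hle
  haveI : Module.Flat R RQ := IsLocalization.flat _ (𝔮.primeCompl.map (algebraMap P R))
  have hlist : (List.ofFn fun i => algebraMap P R (g i)).map (algebraMap R RQ) =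
      List.ofFn fun i => algebraMap P RQ (g i) := by
    rw [List.map_ofFn]
    exact congrArg List.ofFn (funext fun i => (IsScalarTower.algebraMap_apply P R RQ (g i)).symm)
  have hregQ : IsWeaklyRegular RQ (List.ofFn fun i => algebraMap P RQ (g i)) :=
    hlist ▸ hreg.of_flat
  have hv : ∀ i, IsUnit (algebraMap P RQ (s i)) := fun i => IsLocalization.map_units RQ (⟨_, hs i⟩ : 𝔮.primeCompl)
  let v : Fin N → RQ := fun i => ↑(hv i).unit⁻¹
  have hvs : ∀ i, v i * algebraMap P RQ (s i) = 1 := fun i => (hv i).val_inv_mul
  let MQ : Matrix (Fin N) (Fin N) RQ := Matrix.of fun i j => v i * algebraMap P RQ (M i j)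
  have hcol := KoszulColon25.mem_sup_span_det (fun i => algebraMap P RQ (g i)) (fun j => algebraMap P RQ (u j)) MQ
    (fun i => by
      have := congrArg (algebraMap P RQ) (hM i)
      simp only [map_sum, smul_eq_mul, map_mul] at this
      simp only [MQ, Matrix.of_apply, mul_assoc, ← Finset.mul_sum, this]
      rw [← mul_assoc, hvs, one_mul])
    (CI2.ex_of_isWeaklyRegular _ _ hregQ) (a := algebraMap P RQ c) (fun j => by
      rw [← map_mul]
      have hP : ∀ z : P, algebraMap R RQ (algebraMap P R z) = algebraMap P RQ z := fun z =>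
        (IsScalarTower.algebraMap_apply P R RQ z).symm
      have := Ideal.mem_map_of_mem (algebraMap R RQ) (hc (u j) (hu j))
      rw [Ideal.map_span, ← Set.range_comp] at this
      have hfun : ((algebraMap R RQ) ∘ fun i => algebraMap P R (g i)) = fun i => algebraMap P RQ (g i) :=
        funext fun i => hP (g i)
      rw [hfun] at this
      exact hP (c * u j) ▸ this)
  let ψ : RQ →+* Localization.AtPrime Q := Localization.localRingHom 𝔮 Q π.toRingHom rfl
  have hψ : ∀ x : P, ψ (algebraMap P RQ x) = φ x := fun x => Localization.localRingHom_to_map _ _ _ _ x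
  have hψM : ψ MQ.det = (∏ i, ψ (v i)) * φ (Matrix.of M).det := by
    have : MQ = Matrix.of fun i j => v i * ((algebraMap P RQ).mapMatrix (Matrix.of M)) i j := rfl
    rw [this, Matrix.det_mul_column, map_mul, map_prod, ← RingHom.map_det, hψ]
  have hdvd : φ (jac g).det ∣ φ c := by
    obtain ⟨y, hy, z, hz, hyz⟩ := Submodule.mem_sup.1 hcol
    obtain ⟨b, rfl⟩ := Ideal.mem_span_singleton'.1 hz
    have hy0 : ψ y = 0 := by
      obtain ⟨r, rfl⟩ := (Submodule.mem_span_range_iff_exists_fun _).1 hy
      simp only [smul_eq_mul, map_sum, map_mul, hψ]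
      refine Finset.sum_eq_zero fun i _ => ?_
      simp [φ, hg]
    have h1 : φ c = ψ b * ψ MQ.det := by rw [← hψ, ← hyz, map_add, hy0, zero_add, map_mul]
    rw [h1, hψM]
    refine dvd_mul_of_dvd_right (dvd_mul_of_dvd_right ?_ _) _
    have hdu' : IsUnit (φ (jac u).det) := IsLocalization.map_units (Localization.AtPrime Q) (⟨_, hdu⟩ : Q.primeCompl)
    rw [← hdu'.dvd_mul_right, ← hchain]
    exact dvd_mul_left _ _
  obtain ⟨b, hb⟩ := hdvd
  obtain ⟨⟨b', t⟩, hbt⟩ := IsLocalization.surj Q.primeCompl b
  have h2 : algebraMap C (Localization.AtPrime Q) (t * π c) = algebraMap C _ (π (jac g).det * b') := by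
    rw [map_mul, map_mul, ← hbt]
    have hb' : algebraMap C (Localization.AtPrime Q) (π c) = algebraMap C _ (π (jac g).det) * b := hb
    rw [hb']
    ring
  obtain ⟨t', ht'⟩ := (IsLocalization.eq_iff_exists Q.primeCompl _).1 h2
  refine ⟨algebraMap C _ ((t' : C) * t), fun h => (Q.primeCompl.mul_mem t'.2 t.2) h,
    algebraMap C _ ((t' : C) * b'), ?_⟩
  rw [← map_mul, ← map_mul]
  congr 1
  linear_combination ht'

end Groth.Agent.Ram25
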