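import Mathlib

/-!
# A linear form killing monic equations in separate variables
-/

set_option autoImplicit false

universe u

open MvPolynomial

noncomputable section

namespace Groth.Agent.Ram25

variable {R : Type u} [CommRing R] {ι : Type} [Fintype ι] (p : ι → Polynomial R)

/-- The top coefficient of the remainder by a monic polynomial. -/
def theta (j : ι) : Polynomial R →ₗ[R] R :=
  (Polynomial.lcoeff R ((p j).natDegree - 1)).comp (Polynomial.modByMonicHom (p j))

/-- The linear form on polynomials given by the top coefficients in each variable. -/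
def tau : MvPolynomial ι R →ₗ[R] R :=
  (MvPolynomial.basisMonomials ι R).constr R fun e => ∏ j, theta p j (Polynomial.X ^ e j)

theorem tau_monomial (e : ι →₀ ℕ) (r : R) :
    tau p (monomial e r) = r * ∏ j, theta p j (Polynomial.X ^ e j) := by
  have h1 : monomial e r = r • (MvPolynomial.basisMonomials ι R e) := by
    simp [MvPolynomial.coe_basisMonomials, smul_monomial]
  rw [h1, map_smul, smul_eq_mul, tau, Module.Basis.constr_basis]

theorem tau_prod (q : ι → Polynomial R) :
    tau p (∏ j, Polynomial.aeval (X j : MvPolynomial ι R) (q j)) = ∏ j, theta p j (q j) := by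
  classical
  have h1 : ∀ j, Polynomial.aeval (X j : MvPolynomial ι R) (q j) =
      ∑ n ∈ Finset.range ((q j).natDegree + 1), C ((q j).coeff n) * X j ^ n := fun j => by
    conv_lhs => rw [(q j).as_sum_range' ((q j).natDegree + 1) (Nat.lt_succ_self _)]
    simp [map_sum, Polynomial.aeval_monomial, MvPolynomial.algebraMap_eq]
  have h2 : ∀ j, theta p j (q j) =
      ∑ n ∈ Finset.range ((q j).natDegree + 1), (q j).coeff n * theta p j (Polynomial.X ^ n) := fun j => by
    conv_lhs => rw [(q j).as_sum_range' ((q j).natDegree + 1) (Nat.lt_succ_self _)]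
    simp only [map_sum]
    exact Finset.sum_congr rfl fun n _ => by
      rw [← Polynomial.smul_X_eq_monomial, map_smul, smul_eq_mul]
  simp only [h1, h2, Finset.prod_univ_sum]
  rw [map_sum]
  refine Finset.sum_congr rfl fun n _ => ?_
  have h3 : (∏ j, C ((q j).coeff (n j)) * X j ^ n j : MvPolynomial ι R) =
      monomial (Finsupp.equivFunOnFinite.symm n) (∏ j, (q j).coeff (n j)) := by
    rw [Finset.prod_mul_distrib, ← map_prod, monomial_eq, Finsupp.prod_fintype _ _ (fun i => pow_zero _)]
    rfl
  rw [h3, tau_monomial, ← Finset.prod_mul_distrib]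
  rfl

theorem tau_mul_aeval_self (hp : ∀ j, (p j).Monic) (F : MvPolynomial ι R) (j : ι) :
    tau p (F * Polynomial.aeval (X j : MvPolynomial ι R) (p j)) = 0 := by
  classical
  induction F using MvPolynomial.induction_on' with
  | add a b ha hb => rw [add_mul, map_add, ha, hb, add_zero]
  | monomial e r =>
    have h1 : monomial e r * Polynomial.aeval (X j : MvPolynomial ι R) (p j) =
        r • ∏ i, Polynomial.aeval (X i : MvPolynomial ι R)
          (Polynomial.X ^ e i * if i = j then p j else 1) := by
      have h0 : ∀ i, Polynomial.aeval (X i : MvPolynomial ι R) (Polynomial.X ^ e i * if i = j then p j else 1) =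
          X i ^ e i * if i = j then Polynomial.aeval (X i : MvPolynomial ι R) (p j) else 1 := fun i => by
        split_ifs <;> simp
      simp only [h0, Finset.prod_mul_distrib, Finset.prod_ite_eq', Finset.mem_univ, if_true]
      rw [monomial_eq, Finsupp.prod_fintype _ _ (fun i => pow_zero _), smul_eq_C_mul, mul_assoc]
    rw [h1, map_smul, tau_prod, Finset.prod_eq_zero (Finset.mem_univ j) ?_, smul_zero]
    simp only [if_true, theta, LinearMap.comp_apply, Polynomial.modByMonicHom_apply]
    rw [(Polynomial.modByMonic_eq_zero_iff_dvd (hp j)).2 (dvd_mul_left _ _)]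
    simp

theorem tau_mem {I : Ideal R} {F : MvPolynomial ι R} (hF : F ∈ I.map (MvPolynomial.C : R →+* MvPolynomial ι R)) :
    tau p F ∈ I := by
  rw [F.as_sum, map_sum]
  refine I.sum_mem fun e _ => ?_
  rw [tau_monomial]
  exact I.mul_mem_right _ (mem_map_C_iff.1 hF e)

theorem tau_map {S : Type u} [CommRing S] [Nontrivial S] (φ : R →+* S) (hp : ∀ j, (p j).Monic)
    (F : MvPolynomial ι R) : φ (tau p F) = tau (fun j => (p j).map φ) (MvPolynomial.map φ F) := by
  induction F using MvPolynomial.induction_on' with
  | add a b ha hb => simp [ha, hb]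
  | monomial e r =>
    simp only [map_monomial, tau_monomial, map_mul, map_prod, theta, LinearMap.comp_apply,
      Polynomial.modByMonicHom_apply, Polynomial.lcoeff_apply]
    congr 1
    refine Finset.prod_congr rfl fun j _ => ?_
    rw [(hp j).natDegree_map φ, ← Polynomial.coeff_map, Polynomial.map_modByMonic _ (hp j), Polynomial.map_pow,
      Polynomial.map_X]

theorem sub_C_eval_mem (w : ι → R) (F : MvPolynomial ι R) :
    F - C (eval w F) ∈ Ideal.span (Set.range fun j => (X j - C (w j) : MvPolynomial ι R)) := by
  induction F using MvPolynomial.induction_on with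
  | C r => simp
  | add a b ha hb =>
    rw [map_add, map_add, add_sub_add_comm]
    exact Ideal.add_mem _ ha hb
  | mul_X a j ha =>
    rw [map_mul, eval_X, map_mul, show a * X j - C (eval w a) * C (w j) =
      (a - C (eval w a)) * C (w j) + a * (X j - C (w j)) by ring]
    exact Ideal.add_mem _ (Ideal.mul_mem_right _ _ ha) (Ideal.mul_mem_left _ _ (Ideal.subset_span ⟨j, rfl⟩))

theorem tau_eq_of_sub_mem (w : ι → R) (G : MvPolynomial ι R) (F : MvPolynomial ι R)
    (h : ∀ (j : ι) (H : MvPolynomial ι R), tau p (H * (X j - C (w j)) * G) = 0) :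
    tau p (F * G) = eval w F * tau p G := by
  have hmem := sub_C_eval_mem w F
  have h0 : ∀ y ∈ Ideal.span (Set.range fun j => (X j - C (w j) : MvPolynomial ι R)), tau p (y * G) = 0 := by
    intro y hy
    obtain ⟨c, rfl⟩ := (Submodule.mem_span_range_iff_exists_fun _).1 hy
    simp only [Finset.sum_mul, map_sum, smul_eq_mul, h, Finset.sum_const_zero]
  have := h0 _ hmem
  rwa [sub_mul, map_sub, ← smul_eq_C_mul, map_smul, smul_eq_mul, sub_eq_zero] at this

/-- The value of the form at an element which is killed by the linear equations modulo the monic ones. -/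
theorem tau_mul_prod_derivative [IsDomain R] (hp : ∀ j, (p j).Monic) (w : ι → R) (hw : ∀ j, (p j).IsRoot (w j))
    (κ : MvPolynomial ι R) (hκ : ∀ (j : ι) (H : MvPolynomial ι R), tau p (H * (X j - C (w j)) * κ) = 0) :
    tau p κ * ∏ j, (p j).derivative.eval (w j) = eval w κ := by
  classical
  let q : ι → Polynomial R := fun j => p j /ₘ (Polynomial.X - Polynomial.C (w j))
  have hq : ∀ j, (Polynomial.X - Polynomial.C (w j)) * q j = p j := fun j =>
    Polynomial.mul_divByMonic_eq_iff_isRoot.2 (hw j)
  let G : MvPolynomial ι R := ∏ j, Polynomial.aeval (X j : MvPolynomial ι R) (q j)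
  have hG : ∀ (j : ι) (H : MvPolynomial ι R), tau p (H * (X j - C (w j)) * G) = 0 := fun j H => by
    have h1 : H * (X j - C (w j)) * G =
        (H * ∏ i ∈ Finset.univ.erase j, Polynomial.aeval (X i : MvPolynomial ι R) (q i)) *
          Polynomial.aeval (X j : MvPolynomial ι R) (p j) := by
      rw [← hq j, map_mul, map_sub, Polynomial.aeval_X, Polynomial.aeval_C, MvPolynomial.algebraMap_eq]
      simp only [G]
      rw [← Finset.mul_prod_erase _ _ (Finset.mem_univ j)]
      ring
    rw [h1, tau_mul_aeval_self p hp]
  have hG1 : tau p G = 1 := by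
    rw [tau_prod]
    refine Finset.prod_eq_one fun j _ => ?_
    have hmon : (q j).Monic := by
      have := hp j
      rw [← hq j] at this
      exact Polynomial.Monic.of_mul_monic_left (Polynomial.monic_X_sub_C _) this
    have hdeg : (p j).natDegree = (q j).natDegree + 1 := by
      rw [← hq j, (Polynomial.monic_X_sub_C _).natDegree_mul hmon, Polynomial.natDegree_X_sub_C, add_comm]
    have hlt : (q j).degree < (p j).degree := by
      rw [Polynomial.degree_eq_natDegree hmon.ne_zero, Polynomial.degree_eq_natDegree (hp j).ne_zero, hdeg]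
      exact_mod_cast Nat.lt_succ_self _
    simp only [theta, LinearMap.comp_apply, Polynomial.modByMonicHom_apply, Polynomial.lcoeff_apply,
      (Polynomial.modByMonic_eq_self_iff (hp j)).2 hlt, hdeg, Nat.add_sub_cancel]
    exact hmon
  have hev : eval w G = ∏ j, (p j).derivative.eval (w j) := by
    simp only [G, map_prod]
    refine Finset.prod_congr rfl fun j _ => ?_
    conv_rhs => rw [← hq j]
    have hid : (eval w).comp (C : R →+* MvPolynomial ι R) = RingHom.id R := RingHom.ext fun r => eval_C r
    simp [Polynomial.derivative_mul, Polynomial.derivative_sub, Polynomial.aeval_def, Polynomial.hom_eval₂, hid]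
  have e1 := tau_eq_of_sub_mem p w G κ hG
  have e2 := tau_eq_of_sub_mem p w κ G hκ
  rw [hG1, mul_one, mul_comm, e2, hev] at e1
  rw [mul_comm]
  exact e1

end Groth.Agent.Ram25
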