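import Groth.Agent.Lib.Ram25.Jac
import Groth.Agent.Lib.Ram25.Colon
import Groth.Agent.Lib.Ram25.Tau
import Groth.Agent.Lib.RegLoc.Sop
import Groth.Agent.Lib.Goren.CMHeight27
import Mathlib.LinearAlgebra.Matrix.SchurComplement

/-!
# The conductor of a branch and the different
-/

set_option autoImplicit false

universe u

open MvPolynomial IsLocalRing

noncomputable section

namespace Groth.Agent.Ram25

variable {A : Type u} [CommRing A] {ι κ : Type}

theorem pderiv_inl_rename (i : ι) (q : MvPolynomial κ A) :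
    pderiv (Sum.inl i : ι ⊕ κ) (rename (Sum.inr : κ → ι ⊕ κ) q) = 0 := by
  induction q using MvPolynomial.induction_on with
  | C a => simp
  | add p q hp hq => simp [hp, hq]
  | mul_X p k hp => rw [map_mul, pderiv_mul, hp, rename_X, pderiv_X_of_ne (by simp)]; simp

theorem pderiv_inl_eval₂ [DecidableEq ι] (k j : ι) (q : Polynomial (MvPolynomial κ A)) :
    pderiv (Sum.inl k : ι ⊕ κ) (q.eval₂ (rename (Sum.inr : κ → ι ⊕ κ)).toRingHom (X (Sum.inl j))) =
      if j = k then q.derivative.eval₂ (rename (Sum.inr : κ → ι ⊕ κ)).toRingHom (X (Sum.inl j)) else 0 := by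
  induction q using Polynomial.induction_on' with
  | add p q hp hq =>
    rw [Polynomial.eval₂_add, map_add, hp, hq, Polynomial.derivative_add, Polynomial.eval₂_add]
    split_ifs <;> simp
  | monomial n c =>
    rw [Polynomial.eval₂_monomial, pderiv_mul, Polynomial.derivative_monomial, Polynomial.eval₂_monomial,
      show pderiv (Sum.inl k : ι ⊕ κ) ((rename (Sum.inr : κ → ι ⊕ κ)).toRingHom c) = 0 from pderiv_inl_rename k c,
      zero_mul, zero_add, pderiv_pow]
    rcases eq_or_ne j k with rfl | h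
    · rw [if_pos rfl, pderiv_X_self, map_mul, map_natCast]; ring
    · rw [if_neg h, pderiv_X_of_ne (by simpa using h)]; ring

variable [IsRegularLocalRing A]

/-- The conductor of a branch against the equations of a complete intersection, and the different. -/
theorem exists_conductor {N m : ℕ} {Ct : Type u} [CommRing Ct] [IsDomain Ct] [Algebra A Ct]
    (π₀ : MvPolynomial (Fin N) A →ₐ[A] Ct) (w : Fin m → Ct)
    (hgen : Function.Surjective (aeval (R := A) (Sum.elim w fun i => π₀ (X i))))
    (p : Fin m → Polynomial (MvPolynomial (Fin N) A)) (hp : ∀ j, (p j).Monic)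
    (hroot : ∀ j, (p j).eval₂ π₀.toRingHom (w j) = 0)
    (hder : ∀ j, (p j).derivative.eval₂ π₀.toRingHom (w j) ≠ 0)
    (s a : Fin m → MvPolynomial (Fin N) A) (hs : ∀ j, π₀ (s j) ≠ 0) (hsa : ∀ j, π₀ (s j) * w j = π₀ (a j))
    (g₀ : Fin N → MvPolynomial (Fin N) A) (hg₀ : ∀ i, π₀ (g₀ i) = 0)
    (n' : Ideal Ct) [n'.IsPrime] [IsRegularLocalRing (Localization.AtPrime n')]
    (hdim : ringKrullDim (Localization.AtPrime n') = 1) [Algebra.IsEtaleAt A (⊥ : Ideal Ct)] :
    ∃ l : MvPolynomial (Fin N) A, (∀ x, π₀ x = 0 → l * x ∈ Ideal.span (Set.range g₀)) ∧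
      (algebraMap Ct (Localization.AtPrime n') (π₀ (jac g₀).det) ≠ 0 →
        algebraMap Ct (Localization.AtPrime n') (π₀ (jac g₀).det) ∣ algebraMap Ct (Localization.AtPrime n') (π₀ l) →
        Algebra.FormallyUnramified A (Localization.AtPrime n')) := by
  classical
  haveI : IsRegularRing A := isRegularRing_of_isRegularLocalRing A
  let σ := Fin m ⊕ Fin N
  let P := MvPolynomial σ A
  let D := Localization.AtPrime n'
  let π' : P →ₐ[A] Ct := aeval (Sum.elim w fun i => π₀ (X i))
  let ι₀ : MvPolynomial (Fin N) A →ₐ[A] P := rename Sum.inr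
  have hι : ∀ x, π' (ι₀ x) = π₀ x := fun x => by
    have : π'.comp ι₀ = π₀ := MvPolynomial.algHom_ext fun i => by
      show aeval (Sum.elim w fun i => π₀ (X i)) (rename Sum.inr (X i)) = π₀ (X i)
      rw [rename_X]
      exact aeval_X _ _
    exact AlgHom.congr_fun this x
  have hX : ∀ j, π' (X (Sum.inl j)) = w j := fun j => aeval_X _ _
  let pW : Fin m → P := fun j => (p j).eval₂ ι₀.toRingHom (X (Sum.inl j))
  let v : σ → P := Sum.elim pW fun i => ι₀ (g₀ i)
  have hev : ∀ (q : Polynomial (MvPolynomial (Fin N) A)) (j : Fin m),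
      π' (q.eval₂ ι₀.toRingHom (X (Sum.inl j))) = q.eval₂ π₀.toRingHom (w j) := fun q j => by
    rw [show π' (q.eval₂ ι₀.toRingHom (X (Sum.inl j))) = π'.toRingHom (q.eval₂ ι₀.toRingHom (X (Sum.inl j))) from rfl,
      Polynomial.hom_eval₂, ← hX j]
    congr 1
    exact RingHom.ext hι
  have hv : ∀ k, π' (v k) = 0 := by
    rintro (j | i)
    · exact (hev _ j).trans (hroot j)
    · exact (hι _).trans (hg₀ i)
  -- the Jacobian
  have hjac : (jac v).det = (∏ j, (p j).derivative.eval₂ ι₀.toRingHom (X (Sum.inl j))) * ι₀ (jac g₀).det := by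
    have : jac v = Matrix.fromBlocks (Matrix.diagonal fun j => (p j).derivative.eval₂ ι₀.toRingHom (X (Sum.inl j)))
        (Matrix.of fun j i => pderiv (Sum.inr i) (pW j)) 0 (ι₀.toRingHom.mapMatrix (jac g₀)) := by
      refine Matrix.ext fun x y => ?_
      rcases x with j | i <;> rcases y with k | l
      · simp only [jac_apply, v, Sum.elim_inl, Matrix.fromBlocks_apply₁₁, Matrix.diagonal_apply]
        exact pderiv_inl_eval₂ k j (p j)
      · rfl
      · simp only [jac_apply, v, Sum.elim_inr, Matrix.fromBlocks_apply₂₁, Matrix.zero_apply]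
        exact pderiv_inl_rename k _
      · simp only [jac_apply, v, Sum.elim_inr, Matrix.fromBlocks_apply₂₂, RingHom.mapMatrix_apply, Matrix.map_apply]
        exact pderiv_rename Sum.inr_injective _ _
    rw [this, Matrix.det_fromBlocks_zero₂₁, Matrix.det_diagonal, ← RingHom.map_det]
    rfl
  -- the height of the branch
  let K : Ideal P := RingHom.ker π'.toRingHom
  have hKc : (⊥ : Ideal Ct).comap π'.toRingHom = K := rfl
  haveI : K.IsPrime := RingHom.ker_isPrime _
  have hKh : K.height = (Fintype.card σ : ℕ) := by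
    haveI : Algebra.IsUnramifiedAt A (⊥ : Ideal Ct) :=
      inferInstanceAs (Algebra.FormallyUnramified A (Localization.AtPrime (⊥ : Ideal Ct)))
    obtain ⟨u, hu, hdu⟩ := exists_det_notMem π' hgen (⊥ : Ideal Ct)
    have h1 := (local_structure π' hgen (⊥ : Ideal Ct) u hu hdu).2
    rw [IsLocalization.AtPrime.ringKrullDim_eq_height (⊥ : Ideal Ct) (Localization.AtPrime (⊥ : Ideal Ct)),
      IsLocalization.AtPrime.ringKrullDim_eq_height ((⊥ : Ideal Ct).comap π'.toRingHom)
        (Localization.AtPrime ((⊥ : Ideal Ct).comap π'.toRingHom)), Ideal.height_bot] at h1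
    simp only [hKc, WithBot.coe_zero, zero_add] at h1
    exact_mod_cast h1.symm
  let 𝔐 : Ideal P := n'.comap π'.toRingHom
  let R := Localization.AtPrime 𝔐
  haveI : IsRegularLocalRing R := IsRegularRing.isRegularLocalRing_localization 𝔐
  have hK𝔐 : K ≤ 𝔐 := fun x hx => by
    show π' x ∈ n'
    rw [show π' x = 0 from hx]
    exact n'.zero_mem
  let J : Ideal R := K.map (algebraMap P R)
  have hdisj : Disjoint (𝔐.primeCompl : Set P) (K : Set P) := Set.disjoint_left.2 fun z hz hzK => hz (hK𝔐 hzK)
  haveI hJp : J.IsPrime := IsLocalization.isPrime_of_isPrime_disjoint 𝔐.primeCompl R K inferInstance hdisj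
  have hJc : J.comap (algebraMap P R) = K :=
    IsLocalization.comap_map_of_isPrime_disjoint 𝔐.primeCompl R inferInstance hdisj
  let ψ : R →+* D := Localization.localRingHom 𝔐 n' π'.toRingHom rfl
  have hψs : Function.Surjective ψ := RingHom.surjectiveOnStalks_of_surjective hgen n' ‹_›
  let eq : R ⧸ J ≃+* D :=
    (Ideal.quotEquivOfEq (ker_localRingHom π'.toRingHom hgen n').symm).trans (RingHom.quotientKerEquivOfSurjective hψs)
  haveI : IsRegularLocalRing (R ⧸ J) := IsRegularLocalRing.of_ringEquiv eq.symm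
  have hRdim : ringKrullDim R = ((1 + Fintype.card σ : ℕ) : WithBot ℕ∞) := by
    haveI := DepthLib.isCohenMacaulayLocalRing_of_isRegularLocalRing (R := R)
    rw [GorenLib.ringKrullDim_eq_quotient_add_height J hJp.ne_top, ringKrullDim_eq_of_ringEquiv eq, hdim,
      ← IsLocalization.height_under (R := P) 𝔐.primeCompl J, Ideal.under_def, hJc, hKh, Nat.cast_add, Nat.cast_one]
    rfl
  obtain ⟨d, hd⟩ : ∃ d, (maximalIdeal R).spanFinrank = d := ⟨_, rfl⟩
  have hd' : d = 1 + Fintype.card σ := by
    have := IsRegularLocalRing.spanFinrank_maximalIdeal (R := R)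
    rw [hd, hRdim] at this
    exact_mod_cast this
  obtain ⟨x, c, hc, hxm, hJx⟩ := RegLoc.exists_generators_of_regular_quotient d R J hd
  have hcσ : c ≤ Fintype.card σ := by
    by_contra hlt
    have hcd : c = d := by omega
    subst hcd
    have hJm : J = maximalIdeal R := by
      rw [hJx, ← hxm]
      exact congrArg (fun f => Ideal.span (Set.range f)) (funext fun i => congrArg x (Fin.ext rfl))
    haveI : J.IsMaximal := hJm ▸ inferInstance
    have h0 : ringKrullDim (R ⧸ J) = 0 := by
      letI := Ideal.Quotient.field J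
      exact ringKrullDim_eq_zero_of_field (R ⧸ J)
    rw [ringKrullDim_eq_of_ringEquiv eq, hdim] at h0
    exact one_ne_zero h0
  choose at' hat using fun i : Fin c => IsLocalization.surj 𝔐.primeCompl (x (Fin.castLE hc i))
  let eσ := Fintype.equivFin σ
  let u : σ → P := fun k => if h : (eσ k : ℕ) < c then (at' ⟨_, h⟩).1 else 0
  have hspan : J = Ideal.span (Set.range fun k => algebraMap P R (u k)) := by
    refine le_antisymm ?_ ?_
    · rw [hJx, Ideal.span_le]
      rintro _ ⟨i, rfl⟩
      rw [SetLike.mem_coe, ← Ideal.mul_unit_mem_iff_mem _ (IsLocalization.map_units R (at' i).2), hat]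
      refine Ideal.subset_span ⟨eσ.symm ⟨i, lt_of_lt_of_le i.2 hcσ⟩, ?_⟩
      simp [u]
    · rw [Ideal.span_le]
      rintro _ ⟨k, rfl⟩
      by_cases h : (eσ k : ℕ) < c
      · simp only [SetLike.mem_coe, u, dif_pos h]
        rw [← hat]
        exact J.mul_mem_right _ (hJx.ge (Ideal.subset_span ⟨⟨_, h⟩, rfl⟩))
      · simp [u, dif_neg h]
  have hu : ∀ k, π' (u k) = 0 := fun k => by
    have : algebraMap P R (u k) ∈ J := hspan.ge (Ideal.subset_span ⟨k, rfl⟩)
    exact hJc.le this
  have hclear : ∀ y ∈ K, ∃ t ∈ 𝔐.primeCompl, t * y ∈ Ideal.span (Set.range u) := fun y hy => by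
    refine (IsLocalization.algebraMap_mem_map_algebraMap_iff 𝔐.primeCompl R _ _).1 ?_
    rw [Ideal.map_span, ← Set.range_comp]
    exact hspan.le (Ideal.mem_map_of_mem _ hy)
  obtain ⟨t, ht, htK⟩ := exists_mul_mem_of_fg 𝔐.primeCompl (IsNoetherian.noetherian K) hclear
  choose s' hs' hsv using fun k => hclear (v k) (hv k)
  choose M hM using fun k => (Submodule.mem_span_range_iff_exists_fun _).1 (hsv k)
  let φ : P →+* D := (algebraMap Ct D).comp π'.toRingHom
  have hchain := chain_rule φ v u s' (Matrix.of M) (fun k => by simpa [smul_eq_mul] using (hM k).symm)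
    (fun k => by simp [φ, hv]) (fun k => by simp [φ, hu])
  let κ₀ : P := t * (Matrix.of M).det
  have hκv : ∀ y ∈ K, κ₀ * y ∈ Ideal.span (Set.range v) := by
    intro y hy
    obtain ⟨r, hr⟩ := (Submodule.mem_span_range_iff_exists_fun _).1 (htK y hy)
    simp only [smul_eq_mul] at hr
    rw [show κ₀ * y = (Matrix.of M).det * (t * y) by ring, ← hr, Finset.mul_sum]
    refine Ideal.sum_mem _ fun k _ => ?_
    rw [mul_left_comm]
    refine Ideal.mul_mem_left _ _ ?_
    have hdet : ∀ k, (Matrix.of M).det * u k ∈ Ideal.span (Set.range fun i => s' i * v i) := fun k => by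
      let eσ := Fintype.equivFin σ
      have := KoszulColon25.det_mul_mem (fun i => s' (eσ.symm i) * v (eσ.symm i)) (fun i => u (eσ.symm i))
        (Matrix.reindex eσ eσ (Matrix.of M)) (fun i => by
          rw [← hM]
          simp only [smul_eq_mul, Matrix.reindex_apply, Matrix.submatrix_apply, Matrix.of_apply]
          exact (Equiv.sum_comp eσ.symm fun j => M (eσ.symm i) j * u j).symm) (eσ k)
      rw [Matrix.det_reindex_self, Equiv.symm_apply_apply] at this
      refine Ideal.span_mono ?_ this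
      rintro _ ⟨i, rfl⟩
      exact ⟨_, rfl⟩
    refine Ideal.span_le.2 ?_ (hdet k)
    rintro _ ⟨i, rfl⟩
    exact Ideal.mul_mem_left _ _ (Ideal.subset_span ⟨i, rfl⟩)
  -- the linear form
  let e : P ≃ₐ[A] MvPolynomial (Fin m) (MvPolynomial (Fin N) A) := sumAlgEquiv A (Fin m) (Fin N)
  have heι : ∀ x, e (ι₀ x) = C x := fun x => by
    have : e.toAlgHom.comp ι₀ = IsScalarTower.toAlgHom A (MvPolynomial (Fin N) A) _ :=
      MvPolynomial.algHom_ext fun i => by
        show sumAlgEquiv A (Fin m) (Fin N) (rename Sum.inr (X i)) = C (X i)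
        rw [rename_X]
        exact sumAlgEquiv_X_inr A (Fin m) (Fin N) i
    exact AlgHom.congr_fun this x
  have heW : ∀ j, e (pW j) = Polynomial.aeval (X j : MvPolynomial (Fin m) (MvPolynomial (Fin N) A)) (p j) := fun j => by
    rw [show e (pW j) = e.toAlgHom.toRingHom ((p j).eval₂ ι₀.toRingHom (X (Sum.inl j))) from rfl, Polynomial.hom_eval₂,
      Polynomial.aeval_def]
    have h1 : e.toAlgHom.toRingHom.comp ι₀.toRingHom = algebraMap _ _ := RingHom.ext fun x => heι x
    have h2 : e.toAlgHom.toRingHom (X (Sum.inl j)) = X j := sumAlgEquiv_X_inl A (Fin m) (Fin N) j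
    rw [h1, h2]
  refine ⟨tau p (e κ₀), fun y hy => ?_, fun hΔ hdvd => ?_⟩
  · have hmem : κ₀ * ι₀ y ∈ Ideal.span (Set.range v) := hκv _ (show π' (ι₀ y) = 0 by rw [hι, hy])
    have key : ∀ z ∈ Ideal.span (Set.range v), tau p (e z) ∈ Ideal.span (Set.range g₀) := by
      intro z hz
      obtain ⟨r, rfl⟩ := (Submodule.mem_span_range_iff_exists_fun _).1 hz
      simp only [map_sum, smul_eq_mul, map_mul]
      refine Ideal.sum_mem _ fun k _ => ?_
      rcases k with j | i
      · rw [show v (Sum.inl j) = pW j from rfl, heW, tau_mul_aeval_self p hp]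
        exact zero_mem _
      · rw [show v (Sum.inr i) = ι₀ (g₀ i) from rfl, heι, mul_comm, ← smul_eq_C_mul, map_smul, smul_eq_mul]
        exact Ideal.mul_mem_right _ _ (Ideal.subset_span ⟨i, rfl⟩)
    have := key _ hmem
    rwa [map_mul, heι, mul_comm, ← smul_eq_C_mul, map_smul, smul_eq_mul, mul_comm] at this
  · let φ₀ : MvPolynomial (Fin N) A →+* D := (algebraMap Ct D).comp π₀.toRingHom
    let pD : Fin m → Polynomial D := fun j => (p j).map φ₀
    let wD : Fin m → D := fun j => algebraMap Ct D (w j)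
    let Φ : MvPolynomial (Fin m) (MvPolynomial (Fin N) A) →+* MvPolynomial (Fin m) D := MvPolynomial.map φ₀
    haveI : IsDomain D := IsLocalization.isDomain_of_atPrime D n'
    have hinj : Function.Injective (algebraMap Ct D) := IsLocalization.injective D n'.primeCompl_le_nonZeroDivisors
    have hφe : ∀ z : P, eval wD (Φ (e z)) = φ z := fun z => by
      have : ((eval wD).comp Φ).comp e.toAlgHom.toRingHom = φ := by
        refine MvPolynomial.ringHom_ext (fun r => ?_) fun k => ?_
        · show eval wD (Φ (e (algebraMap A P r))) = algebraMap Ct D (π' (algebraMap A P r))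
          rw [e.commutes, π'.commutes]
          simp [Φ, φ₀, MvPolynomial.algebraMap_apply, ← MvPolynomial.algebraMap_eq]
        · rcases k with j | i
          · show eval wD (Φ (e (X (Sum.inl j)))) = algebraMap Ct D (π' (X (Sum.inl j)))
            rw [show e (X (Sum.inl j)) = X j from sumAlgEquiv_X_inl A (Fin m) (Fin N) j, hX]
            simp [Φ, wD]
          · show eval wD (Φ (e (X (Sum.inr i)))) = algebraMap Ct D (π' (X (Sum.inr i)))
            rw [show e (X (Sum.inr i)) = C (X i) from sumAlgEquiv_X_inr A (Fin m) (Fin N) i]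
            rw [show π' (X (Sum.inr i)) = π₀ (X i) from aeval_X _ _]
            simp [Φ, φ₀]
      exact RingHom.congr_fun this z
    have hΦW : ∀ j, Φ (Polynomial.aeval (X j : MvPolynomial (Fin m) (MvPolynomial (Fin N) A)) (p j)) =
        Polynomial.aeval (X j : MvPolynomial (Fin m) D) (pD j) := fun j => by
      rw [Polynomial.aeval_def, Polynomial.hom_eval₂, Polynomial.aeval_def, Polynomial.eval₂_map]
      congr 1
      · exact RingHom.ext fun r => map_C _ r
      · exact map_X _ _
    have hpD : ∀ j, (pD j).Monic := fun j => (hp j).map _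
    have hTk : ∀ z ∈ Ideal.span (Set.range v), ∀ H, tau pD (H * Φ (e z)) = 0 := by
      intro z hz H
      obtain ⟨r, rfl⟩ := (Submodule.mem_span_range_iff_exists_fun _).1 hz
      simp only [map_sum, smul_eq_mul, map_mul, Finset.mul_sum]
      refine Finset.sum_eq_zero fun k _ => ?_
      rcases k with j | i
      · rw [show v (Sum.inl j) = pW j from rfl, heW, hΦW, ← mul_assoc, tau_mul_aeval_self pD hpD]
      · rw [show v (Sum.inr i) = ι₀ (g₀ i) from rfl, heι]
        have : Φ (C (g₀ i)) = 0 := by simp [Φ, φ₀, hg₀]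
        rw [this, mul_zero, mul_zero, map_zero]
    have hκ : ∀ (j : Fin m) (H : MvPolynomial (Fin m) D), tau pD (H * (X j - C (wD j)) * Φ (e κ₀)) = 0 := by
      intro j H
      have hmem : κ₀ * (ι₀ (s j) * X (Sum.inl j) - ι₀ (a j)) ∈ Ideal.span (Set.range v) :=
        hκv _ (show π' _ = 0 by rw [map_sub, map_mul, hι, hι, hX, hsa, sub_self])
      have h1 := hTk _ hmem H
      have h2 : Φ (e (κ₀ * (ι₀ (s j) * X (Sum.inl j) - ι₀ (a j)))) = φ₀ (s j) • ((X j - C (wD j)) * Φ (e κ₀)) := by
        rw [map_mul, map_sub, map_mul e (ι₀ (s j)), heι, heι,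
          show e (X (Sum.inl j)) = X j from sumAlgEquiv_X_inl A (Fin m) (Fin N) j, map_mul, map_sub, map_mul Φ]
        have ha : φ₀ (a j) = φ₀ (s j) * wD j := by
          show algebraMap Ct D (π₀ (a j)) = algebraMap Ct D (π₀ (s j)) * algebraMap Ct D (w j)
          rw [← map_mul, hsa]
        simp only [Φ, map_C, map_X, ha, map_mul, smul_eq_C_mul]
        ring
      rw [h2, mul_smul_comm, map_smul, smul_eq_mul, ← mul_assoc] at h1
      exact (mul_eq_zero.1 h1).resolve_left fun h => hs j (hinj (h.trans (map_zero _).symm))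
    have hwroot : ∀ j, (pD j).IsRoot (wD j) := fun j => by
      show (pD j).eval (wD j) = 0
      rw [Polynomial.eval_map, ← Polynomial.hom_eval₂, hroot, map_zero]
    have hev' : ∀ j, (pD j).derivative.eval (wD j) = algebraMap Ct D ((p j).derivative.eval₂ π₀.toRingHom (w j)) :=
      fun j => by rw [Polynomial.derivative_map, Polynomial.eval_map, Polynomial.hom_eval₂]
    have hkey := tau_mul_prod_derivative pD hpD wD hwroot (Φ (e κ₀)) hκ
    rw [← tau_map p φ₀ hp, hφe] at hkey
    simp only [hev'] at hkey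
    obtain ⟨b, hb⟩ := hdvd
    have hφ₀ : φ₀ (tau p (e κ₀)) = algebraMap Ct D (π₀ (tau p (e κ₀))) := rfl
    rw [hφ₀, hb] at hkey
    have hjac' : φ (jac v).det = (∏ j, algebraMap Ct D ((p j).derivative.eval₂ π₀.toRingHom (w j))) *
        algebraMap Ct D (π₀ (jac g₀).det) := by
      rw [hjac]
      show algebraMap Ct D (π' (_ * _)) = _
      rw [map_mul, map_mul, hι, map_prod, map_prod]
      simp only [hev]
    rw [hjac'] at hchain
    simp only [κ₀, map_mul] at hkey
    set δ := φ (jac u).det with hδ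
    set Pd := ∏ j, algebraMap Ct D ((p j).derivative.eval₂ π₀.toRingHom (w j)) with hPd
    set Δ := algebraMap Ct D (π₀ (jac g₀).det) with hΔ'
    have hPd0 : Pd ≠ 0 := Finset.prod_ne_zero_iff.2 fun j _ h => hder j (hinj (h.trans (map_zero _).symm))
    have hunit : IsUnit (φ t * ∏ k, φ (s' k)) := by
      have hu' : ∀ z ∈ 𝔐.primeCompl, IsUnit (φ z) := fun z hz =>
        IsLocalization.map_units D (⟨π' z, hz⟩ : n'.primeCompl)
      exact (hu' t ht).mul (IsUnit.prod_iff.2 fun k _ => hu' _ (hs' k))
    have h3 : b * δ = φ t * ∏ k, φ (s' k) := by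
      refine mul_left_cancel₀ (mul_ne_zero hΔ hPd0) ?_
      linear_combination δ * hkey - (φ t) * hchain
    have hδu : IsUnit δ := isUnit_of_mul_isUnit_right (h3 ▸ hunit)
    refine formallyUnramified_of_det ((IsScalarTower.toAlgHom A Ct D).comp π') (fun z => ?_) u
      (fun k => by simp [hu]) hδu
    obtain ⟨⟨y, ⟨r, hr⟩⟩, hyr⟩ := IsLocalization.surj n'.primeCompl z
    obtain ⟨y', rfl⟩ := hgen y
    obtain ⟨r', rfl⟩ := hgen r
    refine ⟨r', y', IsLocalization.map_units D (⟨π' r', hr⟩ : n'.primeCompl), ?_⟩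
    show algebraMap Ct D (π' r') * z = algebraMap Ct D (π' y')
    rw [mul_comm]
    exact hyr

end Groth.Agent.Ram25
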