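import Groth.Agent.Lib.Depth.More
import Mathlib.RingTheory.Depth.Rees
import Mathlib.Algebra.Homology.DerivedCategory.Ext.ExactSequences
import Mathlib.Algebra.Homology.DerivedCategory.Ext.Linear
import Mathlib.RingTheory.Ideal.AssociatedPrime.Finiteness

/-!
# Regular perturbations and lifting along a regular sequence
-/

set_option autoImplicit false

universe u

open CategoryTheory Abelian RingTheory.Sequence Pointwise

noncomputable section

namespace Groth.Agent.Ram25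

/-- Prime avoidance for a coset of an ideal. -/
theorem exists_add_notMem {P : Type u} [CommRing P] (T : Finset (Ideal P)) (hT : ∀ p ∈ T, p.IsPrime) (I : Ideal P)
    (hI : ∀ p ∈ T, ¬ I ≤ p) (v : P) : ∃ x ∈ I, ∀ p ∈ T, v + x ∉ p := by
  classical
  let Tm : Finset (Ideal P) := T.filter fun p => ∀ q ∈ T, p ≤ q → p = q
  let S₁ := Tm.filter fun p => v ∈ p
  let S₂ := Tm.filter fun p => v ∉ p
  obtain ⟨K, hKdef⟩ : ∃ K : Ideal P, K = I * ∏ q ∈ S₂, q := ⟨_, rfl⟩
  have hK : ¬ (K : Set P) ⊆ ⋃ p ∈ (↑S₁ : Set (Ideal P)), (p : Set P) := by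
    intro h
    have hp' : ∀ p ∈ S₁, p ≠ (⊥ : Ideal P) → p ≠ (⊥ : Ideal P) → p.IsPrime := fun p hp _ _ =>
      hT p (Finset.mem_filter.1 (Finset.mem_filter.1 hp).1).1
    obtain ⟨p, hp, hKp⟩ := (Ideal.subset_union_prime (s := S₁) (f := fun p => p) (⊥ : Ideal P) ⊥ (I := K) hp').1 h
    obtain ⟨hpm, hvp⟩ := Finset.mem_filter.1 hp
    obtain ⟨hpT, -⟩ := Finset.mem_filter.1 hpm
    haveI := hT p hpT
    subst hKdef
    rcases (Ideal.IsPrime.mul_le (P := p) inferInstance).1 hKp with h1 | h1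
    · exact hI p hpT h1
    · obtain ⟨q, hq, hqp⟩ := (Ideal.IsPrime.prod_le (P := p) inferInstance).1 h1
      obtain ⟨hqm, hvq⟩ := Finset.mem_filter.1 hq
      exact hvq ((Finset.mem_filter.1 hqm).2 p hpT hqp ▸ hvp)
  obtain ⟨x, hx, hxS⟩ := Set.not_subset.1 hK
  rw [hKdef, SetLike.mem_coe] at hx
  have hxI : x ∈ I := Ideal.mul_le_left (J := ∏ q ∈ S₂, q) hx
  have hxP : x ∈ ∏ q ∈ S₂, q := Ideal.mul_le_right (I := I) hx
  refine ⟨x, hxI, fun p hp hmem => ?_⟩
  obtain ⟨m, hm, hmax⟩ := T.exists_le_maximal hp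
  have hmTm : m ∈ Tm := Finset.mem_filter.2 ⟨hmax.1, fun q hq hmq => le_antisymm hmq (hmax.2 hq hmq)⟩
  have hmem' : v + x ∈ m := hm hmem
  rcases Classical.em (v ∈ m) with hv | hv
  · have hmS : m ∈ S₁ := Finset.mem_filter.2 ⟨hmTm, hv⟩
    have hxm : x ∈ m := (m.add_mem_iff_right hv).1 hmem'
    exact hxS (Set.mem_iUnion₂.2 ⟨m, hmS, hxm⟩)
  · have hmS : m ∈ S₂ := Finset.mem_filter.2 ⟨hmTm, hv⟩
    have hle : ∏ q ∈ S₂, q ≤ m := Ideal.le_of_dvd (Finset.dvd_prod_of_mem (fun q => q) hmS)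
    exact hv ((m.add_mem_iff_left (hle hxP)).1 hmem')

theorem smul_top_quotSMulTop_ne_top {R M : Type u} [CommRing R] [AddCommGroup M] [Module R M] {I : Ideal R} {r : R}
    (hr : r ∈ I) (hI : I • (⊤ : Submodule R M) ≠ ⊤) : I • (⊤ : Submodule R (QuotSMulTop r M)) ≠ ⊤ := by
  by_contra eq
  absurd congrArg (Submodule.comap (Submodule.mkQ _)) eq
  simpa [Submodule.comap_smul_top_of_surjective I _ (Submodule.mkQ_surjective _),
    Submodule.smul_mono_left ((Ideal.span_singleton_le_iff_mem I).mpr hr),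
    ← Submodule.ideal_span_singleton_smul] using hI

/-- Perturb elements of an ideal to a sequence regular on two modules. -/
theorem exists_regular_perturb {P R : Type u} [CommRing P] [CommRing R] [IsNoetherianRing R] [Algebra P R] (I : Ideal P) :
    ∀ (N : ℕ) (v : Fin N → P), (∀ i, v i ∈ I) → ∀ (M M' : Type u) [AddCommGroup M] [Module R M] [Module.Finite R M]
      [AddCommGroup M'] [Module R M'] [Module.Finite R M'],
      (N : ℕ∞) ≤ LocCoh.idealDepth (I.map (algebraMap P R)) M → (N : ℕ∞) ≤ LocCoh.idealDepth (I.map (algebraMap P R)) M' →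
      I.map (algebraMap P R) • (⊤ : Submodule R M) ≠ ⊤ → I.map (algebraMap P R) • (⊤ : Submodule R M') ≠ ⊤ →
      ∃ g : Fin N → P, (∀ i, g i - v i ∈ I ^ 2) ∧ IsWeaklyRegular M (List.ofFn fun i => algebraMap P R (g i)) ∧
        IsWeaklyRegular M' (List.ofFn fun i => algebraMap P R (g i)) := by
  intro N
  induction N with
  | zero =>
    intro v _ M M' _ _ _ _ _ _ _ _ _ _
    exact ⟨v, fun i => i.elim0, by simpa using IsWeaklyRegular.nil R M, by simpa using IsWeaklyRegular.nil R M'⟩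
  | succ N ih =>
    intro v hv M M' _ _ _ _ _ _ hM hM' hne hne'
    classical
    let J := I.map (algebraMap P R)
    let T : Finset (Ideal P) := ((associatedPrimes.finite R M).toFinset ∪ (associatedPrimes.finite R M').toFinset).image
      (Ideal.comap (algebraMap P R))
    have key : ∀ (N' : Type u) [AddCommGroup N'] [Module R N'] [Module.Finite R N'],
        (1 : ℕ∞) ≤ LocCoh.idealDepth J N' → J • (⊤ : Submodule R N') ≠ ⊤ →
        ∀ q ∈ associatedPrimes R N', q.IsPrime ∧ ¬ I ≤ q.comap (algebraMap P R) := by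
      intro N' _ _ _ h1 h2 q hq
      refine ⟨(AssociatedPrimes.mem_iff.1 hq).isPrime, fun hle => ?_⟩
      obtain ⟨x, hx, hxr⟩ := DepthLib.exists_isSMulRegular_of_one_le_idealDepth h2 h1
      have hxq : x ∈ ⋃ p ∈ associatedPrimes R N', (p : Set R) :=
        Set.mem_biUnion hq ((Ideal.map_le_iff_le_comap.2 hle) hx)
      rw [biUnion_associatedPrimes_eq_zero_divisors] at hxq
      obtain ⟨z, hz, hxz⟩ := hxq
      exact hz (hxr.right_eq_zero_of_smul hxz)
    have h1 : (1 : ℕ∞) ≤ LocCoh.idealDepth J M := le_trans (by simp) hM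
    have h1' : (1 : ℕ∞) ≤ LocCoh.idealDepth J M' := le_trans (by simp) hM'
    have hT : ∀ p ∈ T, p.IsPrime ∧ ¬ I ^ 2 ≤ p := by
      intro p hp
      obtain ⟨q, hq, rfl⟩ := Finset.mem_image.1 hp
      rcases Finset.mem_union.1 hq with hq | hq <;> rw [Set.Finite.mem_toFinset] at hq
      · obtain ⟨a, b⟩ := key M h1 hne q hq
        haveI := a
        exact ⟨inferInstance, fun h => b (Ideal.IsPrime.le_of_pow_le h)⟩
      · obtain ⟨a, b⟩ := key M' h1' hne' q hq
        haveI := a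
        exact ⟨inferInstance, fun h => b (Ideal.IsPrime.le_of_pow_le h)⟩
    obtain ⟨x, hx, hxT⟩ := exists_add_notMem T (fun p hp => (hT p hp).1) (I ^ 2) (fun p hp => (hT p hp).2) (v 0)
    let g₀ := v 0 + x
    have hg₀ : g₀ ∈ I := I.add_mem (hv 0) (Ideal.pow_le_self two_ne_zero hx)
    have hgJ : algebraMap P R g₀ ∈ J := Ideal.mem_map_of_mem _ hg₀
    have hreg : ∀ (N' : Type u) [AddCommGroup N'] [Module R N'], (∀ q ∈ associatedPrimes R N', q.comap (algebraMap P R) ∈ T) →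
        IsSMulRegular N' (algebraMap P R g₀) := by
      intro N' _ _ h
      refine IsSMulRegular.of_right_eq_zero_of_smul fun z hz => ?_
      by_contra hz0
      have : algebraMap P R g₀ ∈ ⋃ p ∈ associatedPrimes R N', (p : Set R) := by
        rw [biUnion_associatedPrimes_eq_zero_divisors]
        exact ⟨z, hz0, hz⟩
      obtain ⟨q, hq, hgq⟩ := Set.mem_iUnion₂.1 this
      exact hxT _ (h q hq) hgq
    have hr : IsSMulRegular M (algebraMap P R g₀) := hreg M fun q hq =>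
      Finset.mem_image_of_mem _ (Finset.mem_union_left _ (by rwa [Set.Finite.mem_toFinset]))
    have hr' : IsSMulRegular M' (algebraMap P R g₀) := hreg M' fun q hq =>
      Finset.mem_image_of_mem _ (Finset.mem_union_right _ (by rwa [Set.Finite.mem_toFinset]))
    have hd : (N : ℕ∞) ≤ LocCoh.idealDepth J (QuotSMulTop (algebraMap P R g₀) M) := by
      rw [← DepthLib.idealDepth_quotSMulTop_add_one hgJ hr, Nat.cast_succ] at hM
      exact (ENat.add_le_add_iff_right ENat.one_ne_top).1 hM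
    have hd' : (N : ℕ∞) ≤ LocCoh.idealDepth J (QuotSMulTop (algebraMap P R g₀) M') := by
      rw [← DepthLib.idealDepth_quotSMulTop_add_one hgJ hr', Nat.cast_succ] at hM'
      exact (ENat.add_le_add_iff_right ENat.one_ne_top).1 hM'
    obtain ⟨g, hg, hgM, hgM'⟩ := ih (fun i => v i.succ) (fun i => hv _) _ _ hd hd'
      (smul_top_quotSMulTop_ne_top hgJ hne) (smul_top_quotSMulTop_ne_top hgJ hne')
    refine ⟨Fin.cons g₀ g, fun i => ?_, ?_, ?_⟩
    · refine Fin.cases ?_ (fun j => ?_) i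
      · simpa [g₀] using hx
      · simpa using hg j
    all_goals rw [List.ofFn_succ, isWeaklyRegular_cons_iff]; simp only [Fin.cons_zero, Fin.cons_succ]
    · exact ⟨hr, hgM⟩
    · exact ⟨hr', hgM'⟩

variable {R : Type u} [CommRing R]

theorem mk_mem_smul_top_iff {M : Type u} [AddCommGroup M] [Module R M] (g : R) (l : List R) (x : M) :
    (Submodule.mkQ (g • (⊤ : Submodule R M)) x : QuotSMulTop g M) ∈ Ideal.ofList l • (⊤ : Submodule R (QuotSMulTop g M)) ↔
      x ∈ Ideal.ofList (g :: l) • (⊤ : Submodule R M) := by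
  rw [← Submodule.mem_comap, Submodule.comap_smul_top_of_surjective _ _ (Submodule.mkQ_surjective _),
    Submodule.ker_mkQ, Ideal.ofList_cons, Submodule.sup_smul, Submodule.ideal_span_singleton_smul, sup_comm]

/-- Surjectivity on `Ext` passes from the first to the third term of a morphism of short exact sequences. -/
theorem surjective_ext_τ₃ {X : ModuleCat.{u} R} {S₁ S₂ : ShortComplex (ModuleCat.{u} R)} (hS₁ : S₁.ShortExact)
    (hS₂ : S₂.ShortExact) (F : S₁ ⟶ S₂) {n : ℕ}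
    (hkill : ∀ w : Ext X S₁.X₁ (n + 1), w.comp (Ext.mk₀ S₁.f) (add_zero _) = 0)
    (hsub : Subsingleton (Ext X S₂.X₂ n))
    (hsurj : ∀ z : Ext X S₂.X₁ (n + 1), ∃ z₀ : Ext X S₁.X₁ (n + 1), z₀.comp (Ext.mk₀ F.τ₁) (add_zero _) = z)
    (z : Ext X S₂.X₃ n) : ∃ z₀ : Ext X S₁.X₃ n, z₀.comp (Ext.mk₀ F.τ₃) (add_zero _) = z := by
  obtain ⟨w, hw⟩ := hsurj (z.comp hS₂.extClass rfl)
  obtain ⟨z₀, hz₀⟩ := Ext.covariant_sequence_exact₁ _ hS₁ w (hkill w) (n₀ := n) rfl
  refine ⟨z₀, ?_⟩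
  have hnat : (z₀.comp (Ext.mk₀ F.τ₃) (add_zero _)).comp hS₂.extClass rfl = z.comp hS₂.extClass rfl := by
    rw [← hw, ← hz₀, Ext.comp_assoc_of_second_deg_zero, Ext.comp_assoc_of_third_deg_zero,
      ShortComplex.ShortExact.extClass_naturality hS₁ hS₂ F]
  rw [← sub_eq_zero]
  have h0 : (z₀.comp (Ext.mk₀ F.τ₃) (add_zero _) - z).comp hS₂.extClass rfl = 0 := by
    rw [sub_eq_add_neg, Ext.add_comp, Ext.neg_comp, hnat, add_neg_cancel]
  obtain ⟨x₂, hx₂⟩ := Ext.covariant_sequence_exact₃ _ hS₂ _ rfl h0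
  rw [← hx₂, Subsingleton.elim x₂ 0, Ext.zero_comp]

theorem ext_comp_smul_eq_zero {X : ModuleCat.{u} R} {g : R} (hg : g • 𝟙 X = 0) (T : ModuleCat.{u} R) {n : ℕ}
    (w : Ext X T n) : w.comp (Ext.mk₀ (g • 𝟙 T)) (add_zero _) = 0 := by
  rw [← Ext.smul_eq_comp_mk₀, ← Ext.mk₀_id_comp w, ← Ext.smul_comp, ← Ext.mk₀_smul, hg, Ext.mk₀_zero, Ext.zero_comp]

variable [IsNoetherianRing R] {J : Ideal R}

/-- Homomorphisms from `R ⧸ J` lift along a map which is surjective on `Ext` in the degree of a regular sequence. -/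
theorem exists_lift_of_surjective_ext : ∀ (l : List R), (∀ g ∈ l, g ∈ J) → ∀ (M M' : Type u) [AddCommGroup M]
    [Module R M] [Module.Finite R M] [AddCommGroup M'] [Module R M'] [Module.Finite R M'] (q : M →ₗ[R] M'),
    IsWeaklyRegular M l → IsWeaklyRegular M' l →
    (∀ z : Ext (ModuleCat.of R (R ⧸ J)) (ModuleCat.of R M') l.length,
      ∃ z₀ : Ext (ModuleCat.of R (R ⧸ J)) (ModuleCat.of R M) l.length,
        z₀.comp (Ext.mk₀ (ModuleCat.ofHom q)) (add_zero _) = z) →
    ∀ y : M', (∀ j ∈ J, j • y ∈ Ideal.ofList l • (⊤ : Submodule R M')) →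
      ∃ x : M, (∀ j ∈ J, j • x ∈ Ideal.ofList l • (⊤ : Submodule R M)) ∧
        q x - y ∈ Ideal.ofList l • (⊤ : Submodule R M')
  | [], _, M, M', _, _, _, _, _, _, q, _, _, hsurj, y, hy => by
    simp only [Ideal.ofList_nil, Submodule.bot_smul, Submodule.mem_bot] at hy ⊢
    let φ : (R ⧸ J) →ₗ[R] M' := Submodule.liftQ J (LinearMap.toSpanSingleton R M' y) fun j hj => hy j hj
    obtain ⟨z₀, hz₀⟩ := hsurj (Ext.mk₀ (ModuleCat.ofHom φ))
    obtain ⟨ψ, rfl⟩ := Ext.addEquiv₀.symm.surjective z₀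
    have h1 : (ψ ≫ ModuleCat.ofHom q) = ModuleCat.ofHom φ := by
      apply Ext.addEquiv₀.symm.injective
      simpa [Ext.mk₀_comp_mk₀] using hz₀
    refine ⟨ψ.hom (Submodule.Quotient.mk (1 : R)), fun j hj => ?_, ?_⟩
    · rw [← map_smul, ← Submodule.Quotient.mk_smul, smul_eq_mul, mul_one,
        (Submodule.Quotient.mk_eq_zero J).2 hj, map_zero]
    · have := congrArg (fun f => f.hom (Submodule.Quotient.mk (1 : R))) h1
      simp only [ModuleCat.hom_comp, LinearMap.comp_apply, ModuleCat.hom_ofHom] at this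
      rw [this, sub_eq_zero]
      exact one_smul R y
  | g :: l, hlJ, M, M', _, _, _, _, _, _, q, hM, hM', hsurj, y, hy => by
    have hgJ : g ∈ J := hlJ g List.mem_cons_self
    have hlen : ∀ (T : Type u) [AddCommGroup T] [Module R T] [Module.Finite R T], IsWeaklyRegular T (g :: l) →
        Subsingleton (Ext (ModuleCat.of R (R ⧸ J)) (ModuleCat.of R T) l.length) := fun T _ _ _ hT =>
      DepthLib.subsingleton_ext_of_le_idealDepth (DepthLib.length_le_idealDepth hT hlJ) _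
        (DepthLib.support_quotient J).subset (Nat.lt_succ_self _)
    haveI := hlen M' hM'
    rw [isWeaklyRegular_cons_iff] at hM hM'
    let S₁ := ModuleCat.smulShortComplex (ModuleCat.of R M) g
    let S₂ := ModuleCat.smulShortComplex (ModuleCat.of R M') g
    have hS₁ : S₁.ShortExact := IsSMulRegular.smulShortComplex_shortExact (M := ModuleCat.of R M) hM.1
    have hS₂ : S₂.ShortExact := IsSMulRegular.smulShortComplex_shortExact (M := ModuleCat.of R M') hM'.1
    let q' : QuotSMulTop g M →ₗ[R] QuotSMulTop g M' := QuotSMulTop.map g q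
    let F : S₁ ⟶ S₂ :=
      { τ₁ := ModuleCat.ofHom q
        τ₂ := ModuleCat.ofHom q
        τ₃ := ModuleCat.ofHom q'
        comm₁₂ := by ext x; exact (map_smul q g x).symm
        comm₂₃ := by ext x; rfl }
    have hsurj' : ∀ z : Ext (ModuleCat.of R (R ⧸ J)) (ModuleCat.of R (QuotSMulTop g M')) l.length,
        ∃ z₀ : Ext (ModuleCat.of R (R ⧸ J)) (ModuleCat.of R (QuotSMulTop g M)) l.length,
          z₀.comp (Ext.mk₀ (ModuleCat.ofHom q')) (add_zero _) = z :=
      surjective_ext_τ₃ (X := ModuleCat.of R (R ⧸ J)) hS₁ hS₂ F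
        (fun w => ext_comp_smul_eq_zero (ModuleCat.hom_ext (LinearMap.ext fun m => by
          obtain ⟨m, rfl⟩ := Submodule.Quotient.mk_surjective J m
          exact (Submodule.Quotient.mk_eq_zero J).2 (J.mul_mem_right _ hgJ))) (ModuleCat.of R M) w) this hsurj
    obtain ⟨x', hx', hq'⟩ := exists_lift_of_surjective_ext l (fun a ha => hlJ a (List.mem_cons_of_mem _ ha)) _ _ q'
      hM.2 hM'.2 hsurj' (Submodule.mkQ _ y) (fun j hj => by
        rw [← map_smul, mk_mem_smul_top_iff]; exact hy j hj)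
    obtain ⟨x, rfl⟩ := Submodule.mkQ_surjective _ x'
    refine ⟨x, fun j hj => ?_, ?_⟩
    · rw [← mk_mem_smul_top_iff, map_smul]; exact hx' j hj
    · rw [← mk_mem_smul_top_iff, map_sub]; exact hq'

/-- Homomorphisms from `R ⧸ J` to `R/(g, f)` lift to `R/(g)`. -/
theorem exists_lift_colon (f : R) (hf : IsSMulRegular R f) (l : List R) (hlJ : ∀ g ∈ l, g ∈ J)
    (hl : IsWeaklyRegular R l) (hl' : IsWeaklyRegular (QuotSMulTop f R) l)
    (hpd : Subsingleton (Ext (ModuleCat.of R (R ⧸ J)) (ModuleCat.of R R) (l.length + 1)))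
    (c : R) (hc : ∀ j ∈ J, j * c ∈ Ideal.ofList l ⊔ Ideal.span {f}) :
    ∃ c' : R, (∀ j ∈ J, j * c' ∈ Ideal.ofList l) ∧ c' - c ∈ Ideal.ofList l ⊔ Ideal.span {f} := by
  let S := ModuleCat.smulShortComplex (ModuleCat.of R R) f
  have hS : S.ShortExact := IsSMulRegular.smulShortComplex_shortExact (M := ModuleCat.of R R) hf
  let q : R →ₗ[R] QuotSMulTop f R := Submodule.mkQ _
  have hmem : ∀ r : R, q r ∈ Ideal.ofList l • (⊤ : Submodule R (QuotSMulTop f R)) ↔
      r ∈ Ideal.ofList l ⊔ Ideal.span {f} := fun r => by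
    rw [mk_mem_smul_top_iff, smul_eq_mul, Ideal.mul_top, Ideal.ofList_cons, sup_comm]
  obtain ⟨x, hx, hq⟩ := exists_lift_of_surjective_ext l hlJ R (QuotSMulTop f R) q hl hl' (fun z => by
      obtain ⟨z₀, hz₀⟩ := Ext.covariant_sequence_exact₃ _ hS z (n₁ := l.length + 1) rfl
        (Subsingleton.elim (α := Ext (ModuleCat.of R (R ⧸ J)) (ModuleCat.of R R) (l.length + 1)) _ _)
      exact ⟨z₀, hz₀⟩)
    (q c) (fun j hj => by rw [← map_smul, hmem]; exact hc j hj)
  refine ⟨x, fun j hj => ?_, ?_⟩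
  · simpa [smul_eq_mul, Ideal.mul_top] using hx j hj
  · rw [← map_sub, hmem] at hq
    exact hq

end Groth.Agent.Ram25
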