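import Groth.Agent.Lib.Ram25.Conductor
import Groth.Agent.Lib.Ram25.Lifting
import Groth.Agent.Lib.AB5.Basic
import Groth.Agent.Lib.SerreCrit.Basic
import Groth.Agent.Lib.SMT.CMBasic

/-!
# Purity of the ramification locus in dimension two
-/

set_option autoImplicit false

universe u

open MvPolynomial IsLocalRing RingTheory.Sequence

noncomputable section

namespace Groth.Agent.Ram25

variable {A C : Type u} [CommRing A] [IsRegularLocalRing A] [CommRing C] [Algebra A C]

/-- A nonzero element of the base stays nonzero in a domain étale somewhere over it. -/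
theorem algebraMap_ne_zero_of_isEtaleAt [Algebra.FinitePresentation A C] (P n : Ideal C) [P.IsPrime] [n.IsPrime]
    (hPn : P ≤ n) [Algebra.IsEtaleAt A P] {f : A} (hf : f ≠ 0) :
    algebraMap A (Localization.AtPrime n) f ≠ 0 := by
  intro h
  haveI := RegLoc.isDomain A
  obtain ⟨g, hg, _⟩ := Algebra.exists_etale_of_isEtaleAt (R := A) P
  have hle : Submonoid.powers g ≤ P.primeCompl := Submonoid.powers_le.2 hg
  letI : Algebra (Localization.Away g) (Localization.AtPrime P) :=
    IsLocalization.localizationAlgebraOfSubmonoidLe _ _ (Submonoid.powers g) P.primeCompl hle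
  haveI := IsLocalization.localization_isScalarTower_of_submonoid_le (Localization.Away g)
    (Localization.AtPrime P) (Submonoid.powers g) P.primeCompl hle
  haveI : IsScalarTower A (Localization.Away g) (Localization.AtPrime P) := IsScalarTower.to₁₃₄ A C _ _
  rw [IsScalarTower.algebraMap_apply A C (Localization.AtPrime n), IsLocalization.map_eq_zero_iff n.primeCompl] at h
  obtain ⟨⟨t, ht⟩, htf⟩ := h
  have h0 : algebraMap C (Localization.AtPrime P) (algebraMap A C f) = 0 :=
    (IsLocalization.map_eq_zero_iff P.primeCompl _ _).2 ⟨⟨t, fun h => ht (hPn h)⟩, htf⟩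
  rw [← IsScalarTower.algebraMap_apply A C (Localization.AtPrime P)] at h0
  have hreg : IsSMulRegular (Localization.Away g) f :=
    Module.Flat.isSMulRegular_of_isRegular (IsRegular.of_ne_zero hf)
  have h1 : f • (1 : Localization.AtPrime P) = 0 := by rw [Algebra.smul_def, mul_one, h0]
  have h2 : ∀ z : Localization.AtPrime P, f • z = 0 → z = 0 := by
    intro z hz
    haveI := IsLocalization.isLocalization_of_submonoid_le (Localization.Away g)
      (Localization.AtPrime P) (Submonoid.powers g) P.primeCompl hle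
    haveI : Module.Flat (Localization.Away g) (Localization.AtPrime P) :=
      IsLocalization.flat _ (P.primeCompl.map (algebraMap C (Localization.Away g)))
    haveI : Module.Flat A (Localization.AtPrime P) := Module.Flat.trans A (Localization.Away g) _
    exact (Module.Flat.isSMulRegular_of_isRegular (IsRegular.of_ne_zero hf)
      : IsSMulRegular (Localization.AtPrime P) f).right_eq_zero_of_smul hz
  exact one_ne_zero (h2 _ h1)

/-- Purity of the ramification locus in dimension two, on the branches over a regular divisor of the base. -/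
theorem formallyUnramified_branch {A₀ Ct : Type u} [CommRing A₀] [IsRegularLocalRing A₀] [Algebra A A₀]
    (hA₀ : Function.Surjective (algebraMap A A₀)) (f : A) (hker : RingHom.ker (algebraMap A A₀) = Ideal.span {f})
    (hf : f ≠ 0) [Algebra.FiniteType A C] (n : Ideal C) [n.IsPrime] [IsDomain (Localization.AtPrime n)]
    [IsIntegrallyClosed (Localization.AtPrime n)] (hdim : ringKrullDim (Localization.AtPrime n) = 2)
    (het : ∀ (P : Ideal C) (_ : P.IsPrime), P < n → Algebra.IsEtaleAt A P)
    (P₀ : Ideal C) [P₀.IsPrime] (hP₀ : P₀ < n) (hfP₀ : algebraMap A C f ∈ P₀)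
    [CommRing Ct] [IsDomain Ct] [Algebra A Ct] [Algebra A₀ Ct] [IsScalarTower A A₀ Ct]
    (β : C →ₐ[A] Ct) (hβ : ∀ x, β x = 0 ↔ x ∈ P₀) {m : ℕ} (w : Fin m → Ct)
    (hgen : Function.Surjective (MvPolynomial.eval₂Hom β.toRingHom w))
    (q : Fin m → Polynomial C) (hq : ∀ j, (q j).Monic) (hroot : ∀ j, (q j).eval₂ β.toRingHom (w j) = 0)
    (hder : ∀ j, (q j).derivative.eval₂ β.toRingHom (w j) ≠ 0)
    (s a : Fin m → C) (hs : ∀ j, s j ∉ P₀) (hsa : ∀ j, β (s j) * w j = β (a j))
    (n' : Ideal Ct) [n'.IsPrime] (hn' : n'.comap β.toRingHom = n) [IsRegularLocalRing (Localization.AtPrime n')]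
    (hdim' : ringKrullDim (Localization.AtPrime n') = 1) [Algebra.IsEtaleAt A₀ (⊥ : Ideal Ct)] :
    Algebra.FormallyUnramified A₀ (Localization.AtPrime n') := by
  classical
  haveI : Algebra.FinitePresentation A C := Algebra.FinitePresentation.of_finiteType.1 inferInstance
  haveI : IsNoetherianRing C := Algebra.FiniteType.isNoetherianRing A C
  haveI := RegLoc.isDomain A
  haveI : IsRegularRing A := isRegularRing_of_isRegularLocalRing A
  obtain ⟨N, π, hπ⟩ := Algebra.FiniteType.iff_quotient_mvPolynomial''.1 (inferInstance : Algebra.FiniteType A C)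
  let P := MvPolynomial (Fin N) A
  let Cn := Localization.AtPrime n
  let R := Localization.AtPrime (n.comap π.toRingHom)
  haveI : IsRegularLocalRing R := IsRegularRing.isRegularLocalRing_localization _
  haveI := RegLoc.isDomain R
  haveI hCM := DepthLib.isCohenMacaulayLocalRing_of_isRegularLocalRing (R := R)
  let ψ : R →+* Cn := Localization.localRingHom _ n π.toRingHom rfl
  have hψs : Function.Surjective ψ := RingHom.surjectiveOnStalks_of_surjective hπ n ‹_›
  have hψ : ∀ x : P, ψ (algebraMap P R x) = algebraMap C Cn (π x) := fun x => Localization.localRingHom_to_map _ _ _ _ x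
  let J := RingHom.ker ψ
  haveI : J.IsPrime := RingHom.ker_isPrime ψ
  let I : Ideal P := RingHom.ker π.toRingHom
  have hJI : J = I.map (algebraMap P R) := ker_localRingHom π.toRingHom hπ n
  -- the generic point
  let c₀ : Ideal C := RingHom.ker (algebraMap C Cn)
  haveI : c₀.IsPrime := RingHom.ker_isPrime _
  have hc₀n : c₀ ≤ n := fun x hx => by
    by_contra hxn
    exact (IsLocalization.map_units Cn (⟨x, hxn⟩ : n.primeCompl)).ne_zero hx
  have hc₀P : c₀ ≤ P₀ := fun x hx => by
    obtain ⟨t, ht⟩ := (IsLocalization.map_eq_zero_iff n.primeCompl Cn x).1 hx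
    have : (t : C) * x ∈ P₀ := ht ▸ P₀.zero_mem
    exact ((inferInstance : P₀.IsPrime).mem_or_mem this).resolve_left fun h => t.2 (hP₀.le h)
  haveI hetP := het P₀ inferInstance hP₀
  haveI := het c₀ inferInstance (lt_of_le_of_lt hc₀P hP₀)
  have hfC : algebraMap A Cn f ≠ 0 := algebraMap_ne_zero_of_isEtaleAt P₀ n hP₀.le hf
  have hc₀h : c₀.height = 0 := by
    have h1 := IsLocalization.height_under (R := C) n.primeCompl (⊥ : Ideal Cn)
    rwa [Ideal.height_bot, Ideal.under_def, show (⊥ : Ideal Cn).comap (algebraMap C Cn) = c₀ from rfl] at h1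
  have hJh : J.height = (N : ℕ) := by
    haveI : Algebra.IsUnramifiedAt A c₀ := inferInstanceAs (Algebra.FormallyUnramified A (Localization.AtPrime c₀))
    obtain ⟨u, hu, hdu⟩ := exists_det_notMem π hπ c₀
    have h1 := (local_structure π hπ c₀ u hu hdu).2
    rw [IsLocalization.AtPrime.ringKrullDim_eq_height c₀ (Localization.AtPrime c₀),
      IsLocalization.AtPrime.ringKrullDim_eq_height (c₀.comap π.toRingHom)
        (Localization.AtPrime (c₀.comap π.toRingHom)), hc₀h, Fintype.card_fin] at h1
    have h2 : J.comap (algebraMap P R) = c₀.comap π.toRingHom := Ideal.ext fun x => by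
      show ψ (algebraMap P R x) = 0 ↔ algebraMap C Cn (π x) = 0
      rw [hψ]
    rw [← IsLocalization.height_under (R := P) (n.comap π.toRingHom).primeCompl J, Ideal.under_def, h2]
    simp only [WithBot.coe_zero, zero_add] at h1
    exact_mod_cast h1.symm
  let eq : R ⧸ J ≃+* Cn := RingHom.quotientKerEquivOfSurjective hψs
  have hRdim : ringKrullDim R = ((N + 2 : ℕ) : WithBot ℕ∞) := by
    rw [GorenLib.ringKrullDim_eq_quotient_add_height J (Ideal.IsPrime.ne_top inferInstance),
      ringKrullDim_eq_of_ringEquiv eq, hdim, hJh, Nat.cast_add, add_comm]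
    rfl
  have hdepth : LocCoh.idealDepth J R = (N : ℕ) := by
    rw [GorenLib.idealDepth_eq_height J (Ideal.IsPrime.ne_top inferInstance), hJh]
  -- projective dimension
  have hpd : Subsingleton (CategoryTheory.Abelian.Ext (ModuleCat.of R (R ⧸ J)) (ModuleCat.of R R) (N + 1)) := by
    haveI : IsLocalRing (R ⧸ J) := RegLoc.isLocalRing_quotient (Ideal.IsPrime.ne_top inferInstance)
    obtain ⟨d, hd⟩ := DepthLib.exists_depth_eq_natCast (R := R) (M := R ⧸ J)
    have h2 : (2 : ℕ∞) ≤ LocCoh.depth R (R ⧸ J) := by
      rw [FlatDepth.depth_eq_of_surjective (A := R) (B := R ⧸ J) (M := R ⧸ J) Ideal.Quotient.mk_surjective,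
        SMT.depth_eq_of_ringEquiv eq.symm]
      exact SerreCrit.two_le_depth_of_normal Cn hdim.ge
    rw [hd] at h2
    have h2' : 2 ≤ d := by exact_mod_cast h2
    have := (AB5.pd_iff_of_regular (A := R) (M := R ⧸ J) hRdim hd N).2 (by omega)
    haveI : CategoryTheory.HasProjectiveDimensionLT (ModuleCat.of R (R ⧸ J)) (N + 1) := this
    exact CategoryTheory.HasProjectiveDimensionLT.subsingleton _ (N + 1) (N + 1) le_rfl _
  haveI : Nontrivial C := ⟨0, 1, fun h => (inferInstance : n.IsPrime).ne_top ((Ideal.eq_top_iff_one n).2 (h ▸ n.zero_mem))⟩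
  -- the element `f`
  let fR := algebraMap A R f
  have hψf : ψ fR = algebraMap A Cn f := by
    show ψ (algebraMap A R f) = _
    rw [IsScalarTower.algebraMap_apply A P R, hψ, π.commutes, ← IsScalarTower.algebraMap_apply]
  have hfreg : IsSMulRegular R fR := by
    have : fR ≠ 0 := fun h => hfC (by rw [← hψf, h, map_zero])
    exact (IsRegular.of_ne_zero this).left.isSMulRegular
  have hfm : fR ∈ maximalIdeal R := by
    show algebraMap A R f ∈ _
    rw [IsScalarTower.algebraMap_apply A P R]
    refine (IsLocalization.AtPrime.to_map_mem_maximal_iff R (n.comap π.toRingHom) _).2 ?_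
    show π (algebraMap A P f) ∈ n
    rw [π.commutes]
    exact hP₀.le hfP₀
  have hJne : J • (⊤ : Submodule R R) ≠ ⊤ := by
    rw [smul_eq_mul, Ideal.mul_top]; exact Ideal.IsPrime.ne_top inferInstance
  have hJne' : J • (⊤ : Submodule R (QuotSMulTop fR R)) ≠ ⊤ := by
    have hm : maximalIdeal R • (⊤ : Submodule R (QuotSMulTop fR R)) ≠ ⊤ :=
      smul_top_quotSMulTop_ne_top hfm (by rw [smul_eq_mul, Ideal.mul_top]; exact (maximalIdeal.isMaximal R).ne_top)
    exact fun h => hm (top_le_iff.1 (h.ge.trans (Submodule.smul_mono_left (le_maximalIdeal (Ideal.IsPrime.ne_top inferInstance)))))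
  have hdepth' : (N : ℕ∞) ≤ LocCoh.idealDepth J (QuotSMulTop fR R) := by
    have hM : LocCoh.IsCohenMacaulayModule R R := hCM.supportDim_eq_depth
    have h1 : LocCoh.depth R (QuotSMulTop fR R) + 1 = LocCoh.depth R R :=
      DepthLib.idealDepth_quotSMulTop_add_one (M := R) hfm hfreg
    have h2 : Module.supportDim R (QuotSMulTop fR R) + 1 = Module.supportDim R R :=
      Module.supportDim_quotSMulTop_succ_eq_supportDim hfreg hfm
    have hCM' : LocCoh.IsCohenMacaulayModule R (QuotSMulTop fR R) := by
      show Module.supportDim R (QuotSMulTop fR R) = ((LocCoh.depth R (QuotSMulTop fR R) : ℕ∞) : WithBot ℕ∞)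
      obtain ⟨dd, hdd⟩ := DepthLib.exists_depth_eq_natCast (R := R) (M := R)
      have hdd' : Module.supportDim R R = ((dd : ℕ∞) : WithBot ℕ∞) := hdd ▸ hM
      haveI : Nontrivial (QuotSMulTop fR R) := by
        rw [← not_subsingleton_iff_nontrivial]
        exact fun h => hJne' (Subsingleton.elim _ _)
      obtain ⟨a, ha⟩ := DepthLib.exists_depth_eq_natCast (R := R) (M := QuotSMulTop fR R)
      obtain ⟨b, hb⟩ := DepthLib.exists_supportDim_eq_natCast (R := R) (M := QuotSMulTop fR R)
      change LocCoh.depth R (QuotSMulTop fR R) + 1 = LocCoh.depth R R at h1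
      rw [ha, hdd] at h1
      rw [hb, hdd'] at h2
      rw [ha, hb]
      have e1 : a + 1 = dd := by exact_mod_cast h1
      have e2 : b + 1 = dd := by exact_mod_cast h2
      have : b = a := by omega
      subst this
      rfl
    have h3 := DepthLib.supportDim_eq_quotient_add_idealDepth hCM' (I := J) (Ideal.IsPrime.ne_top inferInstance)
    have hsupp : Module.supportDim R (QuotSMulTop fR R ⧸ J • (⊤ : Submodule R (QuotSMulTop fR R))) = 1 := by
      have e : Module.support R (QuotSMulTop fR R ⧸ J • (⊤ : Submodule R (QuotSMulTop fR R))) =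
          Module.support R (R ⧸ (J ⊔ Ideal.span {fR})) := by
        rw [Module.support_quotient, Module.support_quotSMulTop, DepthLib.support_quotient, PrimeSpectrum.zeroLocus_sup,
          PrimeSpectrum.zeroLocus_span, Module.support_of_algebra, ← Set.inter_comm]
        rw [show RingHom.ker (algebraMap R R) = ⊥ from (RingHom.injective_iff_ker_eq_bot _).1 Function.injective_id]
        simp [PrimeSpectrum.zeroLocus_bot]
      have e' : Module.supportDim R (QuotSMulTop fR R ⧸ J • (⊤ : Submodule R (QuotSMulTop fR R))) =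
          Module.supportDim R (R ⧸ (J ⊔ Ideal.span {fR})) := by
        unfold Module.supportDim
        rw [e]
      rw [e', Module.supportDim_quotient_eq_ringKrullDim]
      let fC := algebraMap A Cn f
      let θ : R →+* Cn ⧸ Ideal.span {fC} := (Ideal.Quotient.mk _).comp ψ
      have hθ : RingHom.ker θ = J ⊔ Ideal.span {fR} := by
        rw [← RingHom.comap_ker, Ideal.mk_ker, show Ideal.span {fC} = (Ideal.span {fR}).map ψ by
          rw [Ideal.map_span, Set.image_singleton, hψf], Ideal.comap_map_of_surjective ψ hψs, ← RingHom.ker_eq_comap_bot, sup_comm]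
      rw [ringKrullDim_eq_of_ringEquiv ((Ideal.quotEquivOfEq hθ.symm).trans
        (RingHom.quotientKerEquivOfSurjective (Ideal.Quotient.mk_surjective.comp hψs)))]
      have h4 := ringKrullDim_quotient_span_singleton_succ_eq_ringKrullDim_of_mem_nonZeroDivisors
        (R := Cn) (mem_nonZeroDivisors_of_ne_zero hfC) (by
          show algebraMap A Cn f ∈ _
          rw [IsScalarTower.algebraMap_apply A C Cn]
          exact (IsLocalization.AtPrime.to_map_mem_maximal_iff Cn n _).2 (hP₀.le hfP₀))
      rw [hdim] at h4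
      haveI : Nontrivial (Cn ⧸ Ideal.span {fC}) := Ideal.Quotient.nontrivial_iff.2 fun h => by
        rw [Ideal.span_singleton_eq_top] at h
        refine (mem_maximalIdeal _).1 ?_ h
        show algebraMap A Cn f ∈ _
        rw [IsScalarTower.algebraMap_apply A C Cn]
        exact (IsLocalization.AtPrime.to_map_mem_maximal_iff Cn n _).2 (hP₀.le hfP₀)
      have h5 : (0 : WithBot ℕ∞) ≤ ringKrullDim (Cn ⧸ Ideal.span {fC}) := ringKrullDim_nonneg_of_nontrivial
      generalize ringKrullDim (Cn ⧸ Ideal.span {fC}) = k at h4 h5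
      cases k with
      | bot => exact absurd h5 (by simp)
      | coe k =>
        cases k with
        | top => exact absurd (WithBot.coe_inj.1 h4 : (⊤ : ℕ∞) + 1 = ((2 : ℕ) : ℕ∞)) (by simp)
        | coe k =>
          have h4' : ((k + 1 : ℕ) : ℕ∞) = ((2 : ℕ) : ℕ∞) := WithBot.coe_inj.1 h4
          have : k + 1 = 2 := Nat.cast_inj.1 h4'
          have : k = 1 := by omega
          subst this
          rfl
    rw [hsupp] at h3
    rw [Module.supportDim_self_eq_ringKrullDim, hRdim] at h2
    generalize Module.supportDim R (QuotSMulTop fR R) = k at h2 h3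
    generalize LocCoh.idealDepth J (QuotSMulTop fR R) = i at h3
    cases i with
    | top => exact le_top
    | coe i =>
      have hk : k + 1 = ((N + 2 : ℕ) : WithBot ℕ∞) := h2
      rw [h3] at hk
      have hk' : ((1 + i + 1 : ℕ) : ℕ∞) = ((N + 2 : ℕ) : ℕ∞) := WithBot.coe_inj.1 hk
      have : 1 + i + 1 = N + 2 := Nat.cast_inj.1 hk'
      exact_mod_cast (show N ≤ i by omega)
  -- the perturbed equations
  haveI : Algebra.IsUnramifiedAt A P₀ := inferInstanceAs (Algebra.FormallyUnramified A (Localization.AtPrime P₀))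
  obtain ⟨u, hu, hdu⟩ := exists_det_notMem π hπ P₀
  obtain ⟨g, hgu, hgR, hgR'⟩ := exists_regular_perturb (R := R) I N u hu R (QuotSMulTop fR R)
    (by rw [← hJI, hdepth]) (by rw [← hJI]; exact hdepth') (by rw [← hJI]; exact hJne) (by rw [← hJI]; exact hJne')
  have hg : ∀ i, π (g i) = 0 := fun i => by
    have h1 : g i - u i ∈ I := Ideal.pow_le_self two_ne_zero (hgu i)
    have h2 : π (g i - u i) = 0 := h1
    rwa [map_sub, hu, sub_zero] at h2
  have hΔ₀ : π (jac g).det ∉ P₀ := by
    have h1 : π ((jac g).det - (jac u).det) = 0 := det_jac_sub_mem g u hgu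
    rw [map_sub, sub_eq_zero] at h1
    rwa [h1]
  -- the branch
  let red : P →+* MvPolynomial (Fin N) A₀ := MvPolynomial.map (algebraMap A A₀)
  have hreds : Function.Surjective red := MvPolynomial.map_surjective _ hA₀
  let π₀ : MvPolynomial (Fin N) A₀ →ₐ[A₀] Ct := aeval fun i => β (π (X i))
  have hπ₀ : ∀ x, π₀ (red x) = β (π x) := fun x => by
    have : π₀.toRingHom.comp red = β.toRingHom.comp π.toRingHom := MvPolynomial.ringHom_ext
      (fun r => by
        show π₀ (red (MvPolynomial.C r)) = β (π (MvPolynomial.C r))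
        rw [show red (MvPolynomial.C r) = MvPolynomial.C (algebraMap A A₀ r) from map_C _ r, ← MvPolynomial.algebraMap_eq, ← MvPolynomial.algebraMap_eq,
          π₀.commutes, π.commutes, β.commutes, ← IsScalarTower.algebraMap_apply])
      fun i => by simp [red, π₀]
    exact RingHom.congr_fun this x
  have hgen' : Function.Surjective (aeval (R := A₀) (Sum.elim w fun i => π₀ (X i))) := by
    intro z
    obtain ⟨F, rfl⟩ := hgen z
    induction F using MvPolynomial.induction_on with
    | C r =>
      obtain ⟨x, rfl⟩ := hπ r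
      refine ⟨rename Sum.inr (red x), ?_⟩
      rw [MvPolynomial.coe_eval₂Hom, eval₂_C, aeval_rename, show (Sum.elim w fun i => π₀ (X i)) ∘ Sum.inr = fun i => π₀ (X i) from rfl]
      show aeval (fun i => π₀ (X i)) (red x) = β (π x)
      rw [← hπ₀]
      congr 1
      exact MvPolynomial.algHom_ext fun i => by simp [π₀]
    | add a b ha hb =>
      obtain ⟨a', ha'⟩ := ha
      obtain ⟨b', hb'⟩ := hb
      exact ⟨a' + b', by rw [map_add, map_add, ha', hb']⟩
    | mul_X a i ha =>
      obtain ⟨a', ha'⟩ := ha
      exact ⟨a' * X (Sum.inl i), by rw [map_mul, map_mul, ha', aeval_X]; simp⟩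
  have hlift : ∀ j, ∃ p : Polynomial (MvPolynomial (Fin N) A₀), p.Monic ∧
      p.eval₂ π₀.toRingHom (w j) = 0 ∧ p.derivative.eval₂ π₀.toRingHom (w j) ≠ 0 := fun j => by
    obtain ⟨q', hq', -, hmon⟩ := Polynomial.lifts_and_degree_eq_and_monic
      (f := π.toRingHom) (p := q j) (Polynomial.map_surjective π.toRingHom hπ (q j)) (hq j)
    have hcomp : π₀.toRingHom.comp red = β.toRingHom.comp π.toRingHom := RingHom.ext hπ₀
    refine ⟨q'.map red, hmon.map _, ?_, ?_⟩
    · rw [Polynomial.eval₂_map, hcomp, ← Polynomial.eval₂_map, hq']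
      exact hroot j
    · rw [Polynomial.derivative_map, Polynomial.eval₂_map, hcomp, ← Polynomial.eval₂_map, ← Polynomial.derivative_map, hq']
      exact hder j
  choose p hp hproot hpder using hlift
  choose sP hsP using fun j => hπ (s j)
  choose aP haP using fun j => hπ (a j)
  obtain ⟨l, hl, hfin⟩ := exists_conductor π₀ w hgen' p hp hproot hpder (fun j => red (sP j)) (fun j => red (aP j))
    (fun j h => hs j ((hβ _).1 (by rwa [hπ₀, hsP] at h))) (fun j => by rw [hπ₀, hπ₀, hsP, haP, hsa])
    (fun i => red (g i)) (fun i => by rw [hπ₀, hg, map_zero]) n' hdim'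
  have hjac : π₀ (jac fun i => red (g i)).det = β (π (jac g).det) := by
    have h1 : jac (fun i => red (g i)) = red.mapMatrix (jac g) := Matrix.ext fun i j => pderiv_map
    rw [h1, ← RingHom.map_det, hπ₀]
  let D := Localization.AtPrime n'
  haveI : IsDomain D := IsLocalization.isDomain_of_atPrime D n'
  have hDinj : Function.Injective (algebraMap Ct D) := IsLocalization.injective D n'.primeCompl_le_nonZeroDivisors
  refine hfin ?_ ?_
  · rw [hjac]
    exact fun h => hΔ₀ ((hβ _).1 (hDinj (h.trans (map_zero _).symm)))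
  obtain ⟨c, hc⟩ := hreds l
  have hfR : algebraMap P R (MvPolynomial.C f) = fR := by
    rw [← MvPolynomial.algebraMap_eq, ← IsScalarTower.algebraMap_apply A P R]
  have hofList : Ideal.ofList (List.ofFn fun i => algebraMap P R (g i)) = Ideal.span (Set.range fun i => algebraMap P R (g i)) :=
    congrArg Ideal.span (by ext x; simp [List.mem_ofFn])
  have hcol : ∀ j ∈ J, j * algebraMap P R c ∈ Ideal.ofList (List.ofFn fun i => algebraMap P R (g i)) ⊔ Ideal.span {fR} := by
    intro j hj
    rw [hJI] at hj
    induction hj using Submodule.span_induction with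
    | mem y hy =>
      obtain ⟨x, hx, rfl⟩ := hy
      have h1 : red (c * x) ∈ (Ideal.span (Set.range g)).map red := by
        rw [map_mul, hc, Ideal.map_span, ← Set.range_comp]
        exact hl _ (by rw [hπ₀, show π x = 0 from hx, map_zero])
      rw [← Ideal.mem_comap, Ideal.comap_map_of_surjective _ hreds, ← RingHom.ker_eq_comap_bot,
        MvPolynomial.ker_map, hker, Ideal.map_span, Set.image_singleton] at h1
      have h2 := Ideal.mem_map_of_mem (algebraMap P R) h1
      rw [Ideal.map_sup, Ideal.map_span, ← Set.range_comp, Ideal.map_span, Set.image_singleton, hfR, map_mul, mul_comm] at h2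
      rw [hofList]
      exact h2
    | zero => rw [zero_mul]; exact zero_mem _
    | add a b _ _ ha hb => rw [add_mul]; exact Ideal.add_mem _ ha hb
    | smul r a _ ha => rw [smul_eq_mul, mul_assoc]; exact Ideal.mul_mem_left _ _ ha
  obtain ⟨c', hc'J, hc'c⟩ := exists_lift_colon (J := J) fR hfreg (List.ofFn fun i => algebraMap P R (g i))
    (fun y hy => by
      obtain ⟨i, rfl⟩ := List.mem_ofFn.1 hy
      exact hJI.ge (Ideal.mem_map_of_mem _ (hg i)))
    hgR hgR' (by rw [List.length_ofFn]; exact hpd) (algebraMap P R c) hcol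
  obtain ⟨⟨pc, t⟩, hpc⟩ := IsLocalization.surj (n.comap π.toRingHom).primeCompl c'
  have hdvd : algebraMap C Cn (π (jac g).det) ∣ algebraMap C Cn (π pc) := by
    refine det_dvd_of_colon π hπ n hdim.ge het g hg hgR ?_ pc fun x hx => ?_
    · intro h
      exact hΔ₀ (hc₀P h)
    · rw [map_mul, ← hpc, ← hofList, mul_right_comm, mul_comm c']
      exact Ideal.mul_mem_right _ _ (hc'J _ (hJI.ge (Ideal.mem_map_of_mem _ hx)))
  have hdvd' : algebraMap C Cn (π (jac g).det) ∣ ψ c' := by
    rw [← hψ pc, ← hpc, map_mul] at hdvd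
    exact ((IsLocalization.map_units R t).map ψ).dvd_mul_right.1 hdvd
  let θ : Cn →+* D := Localization.localRingHom n n' β.toRingHom hn'.symm
  have hθ : ∀ x : C, θ (algebraMap C Cn x) = algebraMap Ct D (β x) := fun x => Localization.localRingHom_to_map _ _ _ _ x
  have hθf : θ (ψ fR) = 0 := by
    rw [hψf, IsScalarTower.algebraMap_apply A C Cn, hθ, β.commutes, IsScalarTower.algebraMap_apply A A₀ Ct,
      show algebraMap A A₀ f = 0 from (RingHom.mem_ker).1 (hker.ge (Ideal.mem_span_singleton_self f)), map_zero, map_zero]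
  have hθc : θ (ψ c') = θ (ψ (algebraMap P R c)) := by
    rw [← sub_eq_zero, ← map_sub, ← map_sub]
    rw [hofList] at hc'c
    obtain ⟨y, hy, z, hz, hyz⟩ := Submodule.mem_sup.1 hc'c
    obtain ⟨r, rfl⟩ := Ideal.mem_span_singleton'.1 hz
    obtain ⟨k, rfl⟩ := (Submodule.mem_span_range_iff_exists_fun _).1 hy
    rw [← hyz]
    simp only [map_add, map_sum, smul_eq_mul, map_mul, hψ, hg, map_zero, mul_zero, Finset.sum_const_zero, hθf, zero_add]
  rw [hjac, ← hc, hπ₀, ← hθ, ← hθ, ← hψ c, ← hθc]
  exact map_dvd θ hdvd'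

end Groth.Agent.Ram25
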