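import Groth.Agent.Lib.Ram25.Branch
import Groth.Agent.Lib.Curve17.Basic

/-!
# Purity of the ramification locus for local algebras
-/

set_option autoImplicit false

universe u

open IsLocalRing

noncomputable section

namespace Groth.Agent.Ram25

theorem isRegularLocalRing_of_dim_one (R : Type u) [CommRing R] [IsDomain R] [IsNoetherianRing R] [IsLocalRing R]
    [IsIntegrallyClosed R] (hdim : ringKrullDim R = 1) : IsRegularLocalRing R := by
  haveI := Curve17.isDiscreteValuationRing_of_dim_one R hdim
  infer_instance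

theorem height_eq_quotient_dim {C : Type u} [CommRing C] (P₀ : Ideal C) (q : Ideal (C ⧸ P₀)) [q.IsPrime]
    (n : Ideal C) [n.IsPrime] (hqn : q.comap (Ideal.Quotient.mk P₀) = n) :
    (q.height : WithBot ℕ∞) =
      ringKrullDim (Localization.AtPrime n ⧸ P₀.map (algebraMap C (Localization.AtPrime n))) := by
  subst hqn
  rw [ringKrullDim_eq_of_ringEquiv (RegLoc.localizationQuotientEquiv P₀ q),
    IsLocalization.AtPrime.ringKrullDim_eq_height q (Localization.AtPrime q)]

/-- A minimal prime over an element with a prescribed dimension of the quotient. -/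
theorem exists_minimalPrime_dim {R : Type u} [CommRing R] (I : Ideal R) (k : ℕ)
    (h : ringKrullDim (R ⧸ I) = k) : ∃ p ∈ I.minimalPrimes, ringKrullDim (R ⧸ p) = k := by
  obtain ⟨l, hl⟩ := (Order.le_krullDim_iff (α := PrimeSpectrum (R ⧸ I)) (n := k)).1 h.ge
  let Q : Ideal R := (l.head.asIdeal).comap (Ideal.Quotient.mk I)
  obtain ⟨p, hp, hpQ⟩ := Ideal.exists_minimalPrimes_le (I := I) (J := Q) (fun x hx => by
    show Ideal.Quotient.mk I x ∈ l.head.asIdeal
    rw [Ideal.Quotient.eq_zero_iff_mem.2 hx]; exact zero_mem _)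
  refine ⟨p, hp, le_antisymm ((ringKrullDim_le_of_surjective (Ideal.Quotient.factor hp.1.2)
    (Ideal.Quotient.factor_surjective _)).trans h.le) ?_⟩
  rw [ringKrullDim_quotient]
  refine Order.le_krullDim_iff.2 ⟨LTSeries.mk l.length
    (fun i => ⟨(PrimeSpectrum.comap (Ideal.Quotient.mk I) (l i)), ?_⟩) ?_, hl⟩
  · intro x hx
    have h1 : l.head ≤ l i := l.monotone (Fin.zero_le _)
    exact h1 (hpQ hx)
  · intro i j hij
    have hlt : (l i).asIdeal < (l j).asIdeal := l.strictMono hij
    show (l i).asIdeal.comap (Ideal.Quotient.mk I) < (l j).asIdeal.comap (Ideal.Quotient.mk I)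
    exact lt_of_le_of_ne (Ideal.comap_mono hlt.le) fun he =>
      hlt.ne (Ideal.comap_injective_of_surjective _ Ideal.Quotient.mk_surjective he)

/-- An algebra which is étale off a normal point over the closed point has a finite residue field there. -/
theorem finite_residueField : ∀ (d : ℕ), 2 ≤ d → ∀ (A C : Type u) [CommRing A] [IsRegularLocalRing A] [CommRing C]
    [Algebra A C] [Algebra.FiniteType A C] (n : Ideal C) [n.IsPrime],
    n.comap (algebraMap A C) = maximalIdeal A → IsDomain (Localization.AtPrime n) →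
    IsIntegrallyClosed (Localization.AtPrime n) → ringKrullDim (Localization.AtPrime n) = d →
    (∀ (P : Ideal C) (_ : P.IsPrime), P < n → Algebra.IsEtaleAt A P) →
    Module.Finite A (ResidueField (Localization.AtPrime n)) := by
  intro d
  induction d using Nat.strong_induction_on with
  | _ d ih =>
  intro hd A C _ _ _ _ _ n _ hnA hdom hnorm hdim het
  classical
  haveI := hdom
  haveI := hnorm
  haveI := RegLoc.isDomain A
  haveI : Algebra.FinitePresentation A C := Algebra.FinitePresentation.of_finiteType.1 inferInstance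
  haveI : IsNoetherianRing C := Algebra.FiniteType.isNoetherianRing A C
  let Cn := Localization.AtPrime n
  have hP : ∀ (P : Ideal C) (_ : P.IsPrime), P < n → P.comap (algebraMap A C) ≠ maximalIdeal A := fun P hP hlt =>
    haveI := het P hP hlt
    comap_ne_maximalIdeal hlt
  -- the generic point
  let c₀ : Ideal C := RingHom.ker (algebraMap C Cn)
  haveI : c₀.IsPrime := RingHom.ker_isPrime _
  have hc₀n : c₀ < n := by
    refine lt_of_le_of_ne (fun x hx => ?_) fun he => ?_
    · by_contra hxn
      exact (IsLocalization.map_units Cn (⟨x, hxn⟩ : n.primeCompl)).ne_zero hx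
    · have h1 := IsLocalization.height_under (R := C) n.primeCompl (⊥ : Ideal Cn)
      rw [Ideal.height_bot, Ideal.under_def, show (⊥ : Ideal Cn).comap (algebraMap C Cn) = c₀ from rfl, he] at h1
      rw [IsLocalization.AtPrime.ringKrullDim_eq_height n Cn, h1] at hdim
      have : (0 : ℕ) = d := by exact_mod_cast hdim
      omega
  -- a regular parameter of the base
  obtain ⟨f, hfm, hf2, hf0⟩ : ∃ f ∈ maximalIdeal A, f ∉ maximalIdeal A ^ 2 ∧ f ≠ 0 := by
    have hF : ¬ IsField A := fun hF => by
      refine hP c₀ inferInstance hc₀n ?_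
      rw [isField_iff_maximalIdeal_eq.1 hF, ← le_bot_iff]
      intro a ha
      have : algebraMap A C a ∈ n := hc₀n.le ha
      have h1 : a ∈ n.comap (algebraMap A C) := this
      rwa [hnA, isField_iff_maximalIdeal_eq.1 hF] at h1
    obtain ⟨x, hx, hx2, -⟩ := RegLoc.exists_mem_notMem_sq_notMem_minimalPrimes (R := A) hF
    exact ⟨x, hx, hx2, fun h => hx2 (h ▸ zero_mem _)⟩
  obtain ⟨hregA₀, -⟩ := RegLoc.quotient_span_singleton hfm hf2
  let A₀ := A ⧸ Ideal.span {f}
  haveI : IsRegularLocalRing A₀ := hregA₀
  have hA₀ : Function.Surjective (algebraMap A A₀) := Ideal.Quotient.mk_surjective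
  have hkerA₀ : RingHom.ker (algebraMap A A₀) = Ideal.span {f} := Ideal.mk_ker
  -- a component of its zero locus
  haveI := het c₀ inferInstance hc₀n
  let fC := algebraMap A Cn f
  have hfC : fC ≠ 0 := algebraMap_ne_zero_of_isEtaleAt c₀ n hc₀n.le hf0
  have hfn : algebraMap A C f ∈ n := by
    show f ∈ n.comap (algebraMap A C)
    rw [hnA]; exact hfm
  have hfm' : fC ∈ maximalIdeal Cn := by
    show algebraMap A Cn f ∈ _
    rw [IsScalarTower.algebraMap_apply A C Cn]
    exact (IsLocalization.AtPrime.to_map_mem_maximal_iff Cn n _).2 hfn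
  have hdimf : ringKrullDim (Cn ⧸ Ideal.span {fC}) = ((d - 1 : ℕ) : WithBot ℕ∞) := by
    have h4 := ringKrullDim_quotient_span_singleton_succ_eq_ringKrullDim_of_mem_nonZeroDivisors
      (R := Cn) (mem_nonZeroDivisors_of_ne_zero hfC) hfm'
    rw [hdim] at h4
    haveI : Nontrivial (Cn ⧸ Ideal.span {fC}) := Ideal.Quotient.nontrivial_iff.2 fun h => by
      rw [Ideal.span_singleton_eq_top] at h
      exact (mem_maximalIdeal _).1 hfm' h
    have h5 : (0 : WithBot ℕ∞) ≤ ringKrullDim (Cn ⧸ Ideal.span {fC}) := ringKrullDim_nonneg_of_nontrivial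
    generalize ringKrullDim (Cn ⧸ Ideal.span {fC}) = k at h4 h5
    cases k with
    | bot => exact absurd h5 (by simp)
    | coe k =>
      cases k with
      | top => exact absurd (WithBot.coe_inj.1 h4 : (⊤ : ℕ∞) + 1 = (d : ℕ∞)) (by simp)
      | coe k =>
        have h4' : ((k + 1 : ℕ) : ℕ∞) = ((d : ℕ) : ℕ∞) := WithBot.coe_inj.1 h4
        have hk : k + 1 = d := Nat.cast_inj.1 h4'
        rw [show d - 1 = k by omega]
        rfl
  obtain ⟨p, hp, hpdim⟩ := exists_minimalPrime_dim _ _ hdimf
  haveI : p.IsPrime := hp.1.1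
  let P₀ : Ideal C := p.comap (algebraMap C Cn)
  have hP₀map : P₀.map (algebraMap C Cn) = p := IsLocalization.map_comap n.primeCompl Cn p
  have hfP₀ : algebraMap A C f ∈ P₀ := by
    show algebraMap C Cn (algebraMap A C f) ∈ p
    rw [← IsScalarTower.algebraMap_apply]
    exact hp.1.2 (Ideal.mem_span_singleton_self fC)
  have hP₀n : P₀ < n := by
    refine lt_of_le_of_ne ((Ideal.comap_mono (le_maximalIdeal (Ideal.IsPrime.ne_top inferInstance))).trans
      (Localization.AtPrime.comap_maximalIdeal (I := n)).le) fun he => ?_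
    have hm : p = maximalIdeal Cn := by rw [← hP₀map, he, Localization.AtPrime.map_eq_maximalIdeal]
    haveI : p.IsMaximal := hm ▸ inferInstance
    letI := Ideal.Quotient.field p
    rw [ringKrullDim_eq_zero_of_field (Cn ⧸ p)] at hpdim
    have : (0 : ℕ) = d - 1 := by exact_mod_cast hpdim
    omega
  haveI hetP₀ := het P₀ inferInstance hP₀n
  have hmin : ∀ P' : Ideal C, P'.IsPrime → (∀ a ∈ RingHom.ker (algebraMap A A₀), algebraMap A C a ∈ P') → P' ≤ P₀ →
      P' = P₀ := by
    intro P' hP' hf' hle
    have hdisj : Disjoint (n.primeCompl : Set C) (P' : Set C) :=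
      Set.disjoint_left.2 fun z hz hzP => hz (hP₀n.le (hle hzP))
    haveI : (P'.map (algebraMap C Cn)).IsPrime := IsLocalization.isPrime_of_isPrime_disjoint n.primeCompl Cn P' hP' hdisj
    have h1 : P'.map (algebraMap C Cn) ≤ p := hP₀map ▸ Ideal.map_mono hle
    have h2 : p ≤ P'.map (algebraMap C Cn) := hp.2 ⟨inferInstance, (Ideal.span_singleton_le_iff_mem _).2 (by
      show algebraMap A Cn f ∈ _
      rw [IsScalarTower.algebraMap_apply A C Cn]
      exact Ideal.mem_map_of_mem _ (hf' f (hkerA₀.ge (Ideal.mem_span_singleton_self f))))⟩ h1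
    rw [← IsLocalization.comap_map_of_isPrime_disjoint n.primeCompl Cn hP' hdisj, le_antisymm h1 h2]
  -- the branch
  let S₀ := C ⧸ P₀
  letI algA₀S₀ : Algebra A₀ S₀ := (Ideal.Quotient.lift (Ideal.span {f}) (algebraMap A S₀) fun a ha => by
    obtain ⟨r, rfl⟩ := Ideal.mem_span_singleton'.1 ha
    show Ideal.Quotient.mk P₀ (algebraMap A C (r * f)) = 0
    rw [Ideal.Quotient.eq_zero_iff_mem, map_mul]
    exact P₀.mul_mem_left _ hfP₀).toAlgebra
  haveI : IsScalarTower A A₀ S₀ := IsScalarTower.of_algebraMap_eq fun _ => rfl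
  haveI : Algebra.FiniteType A₀ S₀ := Algebra.FiniteType.of_restrictScalars_finiteType A A₀ S₀
  haveI hetS₀ : Algebra.IsEtaleAt A₀ (⊥ : Ideal S₀) := by
    let β₀ : C →ₐ[A] S₀ := Ideal.Quotient.mkₐ A P₀
    have hcomap : (⊥ : Ideal S₀).comap β₀.toRingHom = P₀ := Ideal.mk_ker
    haveI : Algebra.IsEtaleAt A ((⊥ : Ideal S₀).comap β₀.toRingHom) := by
      simp only [hcomap]; exact hetP₀
    refine isEtaleAt_branch hA₀ P₀ hmin β₀ (fun x => Ideal.Quotient.eq_zero_iff_mem) (fun z => ?_) (fun z => ?_) ⊥
    · obtain ⟨x, rfl⟩ := Ideal.Quotient.mk_surjective z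
      exact β₀.toRingHom.isIntegralElem_map
    · obtain ⟨x, rfl⟩ := Ideal.Quotient.mk_surjective z
      exact ⟨1, x, fun h => (inferInstance : P₀.IsPrime).ne_top ((Ideal.eq_top_iff_one _).2 h), by
        rw [map_one, one_mul]; rfl⟩
  haveI := RegLoc.isDomain A₀
  haveI : Algebra.FinitePresentation A₀ S₀ := Algebra.FinitePresentation.of_finiteType.1 inferInstance
  have hinj : Function.Injective (algebraMap A₀ (Localization.AtPrime (⊥ : Ideal S₀))) :=
    (injective_iff_map_eq_zero _).2 fun a ha => by
      by_contra ha0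
      exact algebraMap_ne_zero_of_isEtaleAt (⊥ : Ideal S₀) ⊥ le_rfl ha0 ha
  -- its normalization
  let L := FractionRing S₀
  have hS₀L : Function.Injective (algebraMap A₀ L) := by
    rw [IsScalarTower.algebraMap_eq A₀ S₀ L]
    refine (IsFractionRing.injective S₀ L).comp fun a b hab => hinj ?_
    rw [IsScalarTower.algebraMap_apply A₀ S₀ (Localization.AtPrime (⊥ : Ideal S₀)),
      IsScalarTower.algebraMap_apply A₀ S₀ (Localization.AtPrime (⊥ : Ideal S₀))]
    exact congrArg _ hab
  let K := FractionRing A₀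
  haveI : FaithfulSMul A₀ L := (faithfulSMul_iff_algebraMap_injective _ _).2 hS₀L
  letI : Algebra K L := FractionRing.liftAlgebra A₀ L
  haveI : IsScalarTower A₀ K L := FractionRing.isScalarTower_liftAlgebra A₀ L
  haveI : Algebra.EssFiniteType S₀ L := Algebra.EssFiniteType.of_isLocalization L (nonZeroDivisors S₀)
  haveI : Algebra.EssFiniteType A₀ L := Algebra.EssFiniteType.comp A₀ S₀ L
  haveI : Algebra.EssFiniteType K L := Algebra.EssFiniteType.of_comp A₀ K L
  haveI hLfe : Algebra.FormallyUnramified A₀ L := by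
    haveI : IsLocalization (⊥ : Ideal S₀).primeCompl L := by
      rw [show (⊥ : Ideal S₀).primeCompl = nonZeroDivisors S₀ from
        SetLike.ext fun x => ⟨fun hx => mem_nonZeroDivisors_of_ne_zero hx, fun hx => nonZeroDivisors.ne_zero hx⟩]
      infer_instance
    exact Algebra.FormallyUnramified.of_equiv (A := Localization.AtPrime (⊥ : Ideal S₀)) (B := L)
      ((IsLocalization.algEquiv (⊥ : Ideal S₀).primeCompl _ L).restrictScalars A₀)
  haveI : Algebra.FormallyUnramified K L := Algebra.FormallyUnramified.of_restrictScalars A₀ K L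
  haveI : Algebra.IsSeparable K L := Algebra.FormallyUnramified.isSeparable K L
  haveI hfin : Module.Finite S₀ (integralClosure S₀ L) := finite_integralClosure (A := A₀) (S := S₀) K L
  let Ct := integralClosure S₀ L
  haveI : IsIntegrallyClosed Ct := integralClosure.isIntegrallyClosedOfFiniteExtension L
  haveI : Algebra.IsIntegral S₀ Ct := Algebra.IsIntegral.of_finite S₀ Ct
  haveI : Algebra.FiniteType A₀ Ct := Algebra.FiniteType.trans (inferInstance : Algebra.FiniteType A₀ S₀) inferInstance
  haveI : IsScalarTower A A₀ Ct := IsScalarTower.of_algebraMap_eq fun a => Subtype.ext (by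
    show algebraMap A L a = algebraMap A₀ L (algebraMap A A₀ a)
    rw [IsScalarTower.algebraMap_apply A S₀ L, IsScalarTower.algebraMap_apply A₀ S₀ L,
      ← IsScalarTower.algebraMap_apply A A₀ S₀])
  let β : C →ₐ[A] Ct := IsScalarTower.toAlgHom A S₀ Ct |>.comp (Ideal.Quotient.mkₐ A P₀)
  have hS₀inj : Function.Injective (algebraMap S₀ Ct) := fun a b h =>
    IsFractionRing.injective S₀ L (congrArg Subtype.val h)
  have hβ : ∀ x, β x = 0 ↔ x ∈ P₀ := fun x => by
    show algebraMap S₀ Ct (Ideal.Quotient.mk P₀ x) = 0 ↔ _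
    rw [map_eq_zero_iff _ hS₀inj, Ideal.Quotient.eq_zero_iff_mem]
  have hfracβ : ∀ z : Ct, ∃ s a : C, s ∉ P₀ ∧ β s * z = β a := fun z => by
    obtain ⟨a, b, hb, hab⟩ := IsFractionRing.div_surjective S₀ (z : L)
    obtain ⟨a, rfl⟩ := Ideal.Quotient.mk_surjective a
    obtain ⟨b, rfl⟩ := Ideal.Quotient.mk_surjective b
    refine ⟨b, a, fun h => nonZeroDivisors.ne_zero hb (Ideal.Quotient.eq_zero_iff_mem.2 h), Subtype.ext ?_⟩
    show algebraMap S₀ L (Ideal.Quotient.mk P₀ b) * (z : L) = algebraMap S₀ L (Ideal.Quotient.mk P₀ a)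
    rw [← hab, mul_div_cancel₀ _ (IsFractionRing.to_map_ne_zero_of_mem_nonZeroDivisors hb)]
  have hintβ : ∀ z : Ct, β.toRingHom.IsIntegralElem z := fun z => by
    obtain ⟨q, hq, hqz⟩ := Algebra.IsIntegral.isIntegral (R := S₀) z
    obtain ⟨q', hq', -, hmon⟩ := Polynomial.lifts_and_degree_eq_and_monic (f := Ideal.Quotient.mk P₀) (p := q)
      (Polynomial.map_surjective _ Ideal.Quotient.mk_surjective q) hq
    refine ⟨q', hmon, ?_⟩
    rw [← hq', Polynomial.eval₂_map] at hqz
    exact hqz
  -- the point on it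
  let nbar : Ideal S₀ := n.map (Ideal.Quotient.mk P₀)
  have hnbar : nbar.comap (Ideal.Quotient.mk P₀) = n := by
    rw [Ideal.comap_map_of_surjective _ Ideal.Quotient.mk_surjective, ← RingHom.ker_eq_comap_bot, Ideal.mk_ker,
      sup_eq_left.2 hP₀n.le]
  haveI : nbar.IsPrime := Ideal.map_isPrime_of_surjective Ideal.Quotient.mk_surjective (by rw [Ideal.mk_ker]; exact hP₀n.le)
  have hnbarh : nbar.height = ((d - 1 : ℕ) : ℕ∞) := by
    have h1 := height_eq_quotient_dim P₀ nbar n hnbar
    rw [hP₀map, hpdim] at h1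
    exact WithBot.coe_inj.1 h1
  obtain ⟨l, hlast, hlen⟩ := Order.exists_series_of_le_height (⟨nbar, inferInstance⟩ : PrimeSpectrum S₀)
    (n := d - 1) (le_of_eq (by rw [← hnbarh]; exact PrimeSpectrum.height_eq_orderHeight ⟨nbar, inferInstance⟩))
  obtain ⟨P'', -, hP''p, hP''c⟩ := Ideal.exists_ideal_over_prime_of_isIntegral_of_isPrime (S := Ct) l.head.asIdeal
    (⊥ : Ideal Ct) (by
      rw [show (⊥ : Ideal Ct).comap (algebraMap S₀ Ct) = ⊥ from (RingHom.injective_iff_ker_eq_bot _).1 hS₀inj]
      exact bot_le)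
  haveI := hP''p
  haveI : P''.LiesOver l.head.asIdeal := ⟨hP''c.symm⟩
  haveI : Algebra.HasGoingUp S₀ Ct := inferInstance
  obtain ⟨Lser, hLlen, hLhead, hLmap⟩ := Ideal.exists_ltSeries_of_hasGoingUp (S := Ct) l P''
  let n' : Ideal Ct := Lser.last.asIdeal
  have hn'c : n'.comap (algebraMap S₀ Ct) = nbar := by
    have := congrArg List.getLast? hLmap
    rw [List.getLast?_map, List.getLast?_eq_getLast_of_ne_nil (RelSeries.toList_ne_nil _),
      List.getLast?_eq_getLast_of_ne_nil (RelSeries.toList_ne_nil _), Option.map_some, RelSeries.getLast_toList,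
      RelSeries.getLast_toList, hlast] at this
    exact congrArg PrimeSpectrum.asIdeal (Option.some.inj this)
  have hn'h : n'.height = ((d - 1 : ℕ) : ℕ∞) := by
    refine le_antisymm ?_ ?_
    · rw [← hnbarh, show n'.height = Order.height (⟨n', inferInstance⟩ : PrimeSpectrum Ct) from
          PrimeSpectrum.height_eq_orderHeight ⟨n', inferInstance⟩,
        show nbar.height = Order.height (⟨nbar, inferInstance⟩ : PrimeSpectrum S₀) from
          PrimeSpectrum.height_eq_orderHeight ⟨nbar, inferInstance⟩]
      rw [show (⟨nbar, inferInstance⟩ : PrimeSpectrum S₀) = PrimeSpectrum.comap (algebraMap S₀ Ct) Lser.last from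
        PrimeSpectrum.ext hn'c.symm]
      exact Order.height_le_height_apply_of_strictMono _ VarDim.strictMono_comap_of_isIntegral _
    · rw [show n'.height = Order.height Lser.last from PrimeSpectrum.height_eq_orderHeight Lser.last]
      rw [← hlen, ← hLlen]
      exact Order.length_le_height_last
  have hn'β : n'.comap β.toRingHom = n := by
    rw [← hnbar, ← hn'c, Ideal.comap_comap]
    rfl
  let D := Localization.AtPrime n'
  haveI : IsDomain D := IsLocalization.isDomain_of_atPrime D n'
  haveI : IsIntegrallyClosed D := isIntegrallyClosed_of_isLocalization D n'.primeCompl n'.primeCompl_le_nonZeroDivisors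
  have hDdim : ringKrullDim D = ((d - 1 : ℕ) : WithBot ℕ∞) := by
    rw [IsLocalization.AtPrime.ringKrullDim_eq_height n' D, hn'h]
    rfl
  haveI : IsLocalHom (algebraMap A A₀) := IsLocalHom.of_surjective _ hA₀
  have hn'A : n'.comap (algebraMap A₀ Ct) = maximalIdeal A₀ := by
    ext z
    obtain ⟨a, rfl⟩ := hA₀ z
    have h1 : algebraMap A₀ Ct (algebraMap A A₀ a) = β (algebraMap A C a) := by
      rw [β.commutes, ← IsScalarTower.algebraMap_apply]
    show algebraMap A₀ Ct (algebraMap A A₀ a) ∈ n' ↔ _
    rw [h1, show β (algebraMap A C a) ∈ n' ↔ algebraMap A C a ∈ n from SetLike.ext_iff.1 hn'β _,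
      show algebraMap A A₀ a ∈ maximalIdeal A₀ ↔ a ∈ maximalIdeal A from SetLike.ext_iff.1 (IsLocalRing.maximalIdeal_comap (algebraMap A A₀)) a]
    exact SetLike.ext_iff.1 hnA a
  have hetCt : ∀ (Q : Ideal Ct) (_ : Q.IsPrime), Q < n' → Algebra.IsEtaleAt A₀ Q := by
    intro Q hQ hlt
    have h1 : Q.comap β.toRingHom < n := by
      rw [← hnbar, ← hn'c]
      have h2 : (PrimeSpectrum.comap (algebraMap S₀ Ct) ⟨Q, hQ⟩).asIdeal <
          (PrimeSpectrum.comap (algebraMap S₀ Ct) Lser.last).asIdeal :=
        VarDim.strictMono_comap_of_isIntegral (show (⟨Q, hQ⟩ : PrimeSpectrum Ct) < Lser.last from hlt)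
      refine lt_of_le_of_ne ?_ fun he => h2.ne (Ideal.comap_injective_of_surjective _ Ideal.Quotient.mk_surjective ?_)
      · exact Ideal.comap_mono (f := Ideal.Quotient.mk P₀) (K := (Ideal.comap (algebraMap S₀ Ct) Q)) h2.le
      · exact he
    haveI := het (Q.comap β.toRingHom) inferInstance h1
    exact isEtaleAt_branch hA₀ P₀ hmin β hβ hintβ hfracβ Q
  -- finiteness
  have hfinD : Module.Finite A₀ (ResidueField D) := by
    rcases Nat.lt_or_ge d 3 with hd3 | hd3
    · have hd2 : d = 2 := by omega
      subst hd2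
      haveI : IsRegularLocalRing D := by
        haveI : IsNoetherianRing Ct := Algebra.FiniteType.isNoetherianRing A₀ Ct
        haveI : IsNoetherianRing (Localization.AtPrime n') :=
          IsLocalization.isNoetherianRing n'.primeCompl (Localization.AtPrime n') inferInstance
        exact isRegularLocalRing_of_dim_one (Localization.AtPrime n') (hDdim.trans (by norm_num))
      haveI : Algebra.IsEtaleAt A₀ (⊥ : Ideal Ct) := hetCt ⊥ Ideal.isPrime_bot (bot_lt_iff_ne_bot.2 fun h => by
        rw [show n' = ⊥ from h, Ideal.height_bot] at hn'h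
        exact absurd hn'h (by decide))
      obtain ⟨m, G, hG⟩ := Module.Finite.exists_fin (R := S₀) (M := Ct)
      have hgen : Function.Surjective (MvPolynomial.eval₂Hom β.toRingHom G) := fun z => by
        obtain ⟨c, hc⟩ := (Submodule.mem_span_range_iff_exists_fun S₀).1 (hG ▸ Submodule.mem_top (x := z))
        choose c' hc' using fun i => Ideal.Quotient.mk_surjective (c i)
        refine ⟨∑ i, MvPolynomial.C (c' i) * MvPolynomial.X i, ?_⟩
        rw [map_sum, ← hc]
        refine Finset.sum_congr rfl fun i _ => ?_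
        rw [map_mul, MvPolynomial.eval₂Hom_C, MvPolynomial.eval₂Hom_X', Algebra.smul_def, ← hc']
        rfl
      choose s a hs hsa using fun i => hfracβ (G i)
      choose q hq hqz using fun i => hintβ (G i)
      have hq2 : ∀ i, ∃ q' : Polynomial C, q'.Monic ∧ q'.eval₂ β.toRingHom (G i) = 0 ∧
          q'.derivative.eval₂ β.toRingHom (G i) ≠ 0 := fun i => by
        by_cases h : (q i).derivative.eval₂ β.toRingHom (G i) = 0
        · haveI : Nontrivial C :=
            ⟨0, 1, fun h => (inferInstance : n.IsPrime).ne_top ((Ideal.eq_top_iff_one n).2 (h ▸ n.zero_mem))⟩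
          refine ⟨Polynomial.X ^ 2 * q i + (Polynomial.C (s i) * Polynomial.X - Polynomial.C (a i)), ?_, ?_, ?_⟩
          · refine ((Polynomial.monic_X_pow 2).mul (hq i)).add_of_left ?_
            refine lt_of_le_of_lt (b := ((1 : ℕ) : WithBot ℕ)) ?_ ?_
            · refine (Polynomial.degree_sub_le _ _).trans (max_le ?_ (Polynomial.degree_C_le.trans (by norm_num)))
              exact (Polynomial.degree_C_mul_X_le _)
            · rw [(hq i).degree_mul, Polynomial.degree_X_pow]
              refine lt_of_lt_of_le (by norm_num) (le_add_of_nonneg_right ?_)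
              rw [Polynomial.degree_eq_natDegree (hq i).ne_zero]
              exact_mod_cast Nat.zero_le _
          · have := hsa i
            simp only [Polynomial.eval₂_add, Polynomial.eval₂_mul, Polynomial.eval₂_sub, Polynomial.eval₂_X_pow,
              Polynomial.eval₂_C, Polynomial.eval₂_X, hqz i]
            show _ + (β (s i) * G i - β (a i)) = 0
            rw [this]; ring
          · simp only [Polynomial.derivative_add, Polynomial.derivative_mul, Polynomial.derivative_sub,
              Polynomial.derivative_X_pow, Polynomial.derivative_C, Polynomial.derivative_X, Polynomial.eval₂_add,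
              Polynomial.eval₂_mul, Polynomial.eval₂_sub, Polynomial.eval₂_X_pow, Polynomial.eval₂_C,
              Polynomial.eval₂_X, Polynomial.eval₂_zero, Polynomial.eval₂_one, hqz i, h, mul_zero, zero_mul, mul_one,
              zero_add, add_zero, sub_zero]
            exact fun h0 => hs i ((hβ _).1 h0)
        · exact ⟨q i, hq i, hqz i, h⟩
      choose q' hq' hqz' hqd' using hq2
      haveI := formallyUnramified_branch hA₀ f hkerA₀ hf0 n (hdim.trans (by norm_num)) het P₀ hP₀n hfP₀ β hβ G hgen
        q' hq' hqz' hqd' s a hs hsa n' hn'β (hDdim.trans (by norm_num))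
      exact finite_residueField_of_unramified n' hn'A
    · exact ih (d - 1) (by omega) (by omega) A₀ Ct n' hn'A inferInstance inferInstance hDdim hetCt
  -- back to the point
  haveI := hfinD
  haveI : Module.Finite A A₀ := Module.Finite.of_surjective (Algebra.linearMap A A₀) hA₀
  haveI : IsScalarTower A A₀ D := IsScalarTower.of_algebraMap_eq fun a => by
    rw [IsScalarTower.algebraMap_apply A Ct D, IsScalarTower.algebraMap_apply A₀ Ct D,
      ← IsScalarTower.algebraMap_apply A A₀ Ct]
  haveI : IsScalarTower A A₀ (ResidueField D) := IsScalarTower.of_algebraMap_eq fun a => by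
    show residue D (algebraMap A D a) = residue D (algebraMap A₀ D (algebraMap A A₀ a))
    rw [← IsScalarTower.algebraMap_apply A A₀ D]
  haveI : Module.Finite A (ResidueField D) := Module.Finite.trans A₀ _
  let θ : Cn →ₐ[A] D := Localization.localAlgHom n n' β (Ideal.ext fun x => (SetLike.ext_iff.1 hn'β x).symm)
  haveI : IsLocalHom θ.toRingHom :=
    inferInstanceAs (IsLocalHom (Localization.localRingHom n n' β.toRingHom hn'β.symm))
  let ρ : ResidueField Cn →+* ResidueField D := ResidueField.map θ.toRingHom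
  let ρA : ResidueField Cn →ₗ[A] ResidueField D :=
    { toFun := ρ
      map_add' := map_add ρ
      map_smul' := fun r x => by
        obtain ⟨x, rfl⟩ := residue_surjective x
        show ρ (residue Cn (r • x)) = r • ρ (residue Cn x)
        rw [ResidueField.map_residue, ResidueField.map_residue]
        show residue D (θ (r • x)) = r • residue D (θ x)
        rw [map_smul]
        rfl }
  exact Module.Finite.of_injective ρA ρ.injective

/-- An algebra which is étale off a normal point of dimension at least two over the closed point is quasi-finite there. -/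
theorem quasiFiniteAt_of_etale_punctured {A C : Type u} [CommRing A] [IsRegularLocalRing A] [CommRing C]
    [Algebra A C] [Algebra.FiniteType A C] (n : Ideal C) [n.IsPrime] (hnA : n.comap (algebraMap A C) = maximalIdeal A)
    [IsDomain (Localization.AtPrime n)] [IsIntegrallyClosed (Localization.AtPrime n)]
    (hdim : (2 : WithBot ℕ∞) ≤ ringKrullDim (Localization.AtPrime n))
    (het : ∀ (P : Ideal C) (_ : P.IsPrime), P < n → Algebra.IsEtaleAt A P) :
    Algebra.QuasiFiniteAt A n := by
  haveI : IsNoetherianRing C := Algebra.FiniteType.isNoetherianRing A C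
  obtain ⟨d, hd⟩ := DepthLib.exists_supportDim_eq_natCast (R := Localization.AtPrime n) (M := Localization.AtPrime n)
  rw [Module.supportDim_self_eq_ringKrullDim] at hd
  have hd2 : 2 ≤ d := by
    rw [hd] at hdim
    exact_mod_cast hdim
  haveI := finite_residueField d hd2 A C n hnA inferInstance inferInstance hd het
  haveI := isMaximal_of_finite_residueField n hnA
  refine CAlgLow.quasiFiniteAt_of_isolated (maximalIdeal A) n hnA fun q hq hqm hle => ?_
  by_contra hne
  haveI := hq
  haveI := het q hq (lt_of_le_of_ne hle hne)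
  exact comap_ne_maximalIdeal (lt_of_le_of_ne hle hne) hqm

end Groth.Agent.Ram25
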